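import Cfsg.Agent.JankoOne.OutChecks
import Cfsg.Prelude.Def_KGroupFacts

/-!
Every automorphism of `J1` is inner: a pair of generators of orders two and three is unique up to
conjugation among the pairs with the same product orders.
-/

set_option autoImplicit false

namespace Cfsg.Agent.JankoOne

/-- A value in `J1`. -/
abbrev Val (g : Spor.J1) : Matrix (Fin 7) (Fin 7) (ZMod 11) := g.1

theorem val_mul (g h : Spor.J1) : Val (g * h) = Val g * Val h := rfl

theorem cl_ok {i : ℕ} (hi : i < 5852) : (clM i).Ok := by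
  have h := allB_spec class_checks i hi
  simp only [Bool.and_eq_true] at h
  exact M7.ok_of_okb h.1.1.1.1

theorem cls_conj : ∀ i, i < 5852 → ∃ k : Spor.J1,
    Val (k * wordG (repWord 3) * k⁻¹) = (clM i).den := by
  intro i
  induction i using Nat.strong_induction_on with
  | _ i ih =>
  intro hi
  have h0 := three_checks
  simp only [Bool.and_eq_true, Nat.blt_eq] at h0
  rcases eq_or_ne i 0 with rfl | hne
  · exact ⟨1, by rw [one_mul, inv_one, mul_one, M7.eq_of_beq h0.1, (wordG_den _).2]⟩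
  have hp := allB_spec par_checks i hi
  simp only [Bool.and_eq_true, Bool.or_eq_true, Nat.beq_eq, Nat.blt_eq, hne, false_or] at hp
  obtain ⟨k, hk⟩ := ih _ hp.1 (hp.1.trans hi)
  have h := allB_spec class_checks _ (hp.1.trans hi)
  simp only [Bool.and_eq_true, Nat.blt_eq] at h
  have step : ∀ (a : Spor.J1) (A : M7), A.Ok → Val a = A.den →
      M7.beq (A.mul (clM (tget 0 threePar i / 2))) ((clM i).mul A) = true →
      ∃ k : Spor.J1, Val (k * wordG (repWord 3) * k⁻¹) = (clM i).den := by
    intro a A hA ha hb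
    refine ⟨a * k, ?_⟩
    have e := congrArg M7.den (M7.eq_of_beq hb)
    rw [M7.den_mul hA (cl_ok (hp.1.trans hi)), M7.den_mul (cl_ok hi) hA, ← hk, ← ha, ← val_mul] at e
    rw [show a * k * wordG (repWord 3) * (a * k)⁻¹ = a * (k * wordG (repWord 3) * k⁻¹) * a⁻¹ by group,
      val_mul, e, mul_assoc, ← val_mul, mul_inv_cancel]
    exact mul_one _
  cases hb : Nat.beq (tget 0 threePar i % 2) 0 <;> simp only [hb, cond_true, cond_false] at hp
  · refine step (wordG [1]) genY genOk.2.1 ?_ (by rw [hp.2] at h; exact h.2)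
    rw [den_genY]; simp [Val, wordG]; rfl
  · refine step (wordG [0]) genX genOk.1 ?_ (by rw [hp.2] at h; exact h.1.1.2)
    rw [den_genX]; simp [Val, wordG]; rfl

theorem cls_mem (i : ℕ) (hi : i < 5852) : ∃ g : Spor.J1, Val g = (clM i).den :=
  let ⟨k, hk⟩ := cls_conj i hi
  ⟨k * wordG (repWord 3) * k⁻¹, hk⟩

/-- The listed class. -/
def InClass (y : Spor.J1) : Prop := ∃ i < 5852, Val y = (clM i).den

theorem inClass_conj {y : Spor.J1} (hy : InClass y) (g : Spor.J1) : InClass (g * y * g⁻¹) := by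
  suffices h : ∀ g : GL (Fin 7) (ZMod 11), g ∈ Subgroup.closure ({Spor.jankoX, Spor.jankoY} :
      Set (GL (Fin 7) (ZMod 11))) → ∀ i < 5852, ∃ j < 5852,
      (g : Matrix (Fin 7) (Fin 7) (ZMod 11)) * (clM i).den = (clM j).den * g by
    obtain ⟨i, hi, e⟩ := hy
    obtain ⟨j, hj, ej⟩ := h g.1 g.2 i hi
    refine ⟨j, hj, ?_⟩
    simp only [Val, Subgroup.coe_mul, Units.val_mul, InvMemClass.coe_inv] at e ⊢
    rw [e, ej, mul_assoc, ← Units.val_mul, mul_inv_cancel, Units.val_one, mul_one]
  intro g hg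
  induction hg using Subgroup.closure_induction with
  | mem x hx =>
    intro i hi
    have h := allB_spec class_checks i hi
    simp only [Bool.and_eq_true, Nat.blt_eq] at h
    rcases hx with rfl | rfl
    · refine ⟨_, h.1.1.1.2, ?_⟩
      rw [show (Spor.jankoX : Matrix (Fin 7) (Fin 7) (ZMod 11)) = genX.den from den_genX.symm,
        ← M7.den_mul genOk.1 (cl_ok hi), ← M7.den_mul (cl_ok h.1.1.1.2) genOk.1,
        M7.eq_of_beq h.1.1.2]
    · refine ⟨_, h.1.2, ?_⟩
      rw [show (Spor.jankoY : Matrix (Fin 7) (Fin 7) (ZMod 11)) = genY.den from den_genY.symm,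
        ← M7.den_mul genOk.2.1 (cl_ok hi), ← M7.den_mul (cl_ok h.1.2) genOk.2.1,
        M7.eq_of_beq h.2]
  | one => exact fun i hi => ⟨i, hi, by rw [Units.val_one, one_mul, mul_one]⟩
  | mul x y _ _ hx hy =>
    intro i hi
    obtain ⟨j, hj, ej⟩ := hy i hi
    obtain ⟨k, hk, ek⟩ := hx j hj
    exact ⟨k, hk, by rw [Units.val_mul, mul_assoc, ej, ← mul_assoc, ek, mul_assoc]⟩
  | inv x _ hx =>
    have hfin : ∀ n : ℕ, ∀ i < 5852, ∃ j < 5852,
        ((x ^ n : GL (Fin 7) (ZMod 11)) : Matrix (Fin 7) (Fin 7) (ZMod 11)) * (clM i).den =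
          (clM j).den * ((x ^ n : GL (Fin 7) (ZMod 11)) : Matrix (Fin 7) (Fin 7) (ZMod 11)) := by
      intro n
      induction n with
      | zero => exact fun i hi => ⟨i, hi, by rw [pow_zero, Units.val_one, one_mul, mul_one]⟩
      | succ n ih =>
        intro i hi
        obtain ⟨j, hj, ej⟩ := ih i hi
        obtain ⟨k, hk, ek⟩ := hx j hj
        exact ⟨k, hk, by rw [pow_succ', Units.val_mul, mul_assoc, ej, ← mul_assoc, ek, mul_assoc]⟩
    rw [inv_eq_of_mul_eq_one_right (b := x ^ (orderOf x - 1)) (by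
      rw [← pow_succ', Nat.sub_add_cancel (orderOf_pos x), pow_orderOf_eq_one])]
    exact hfin _

theorem inClass_three {y : Spor.J1} (hy : orderOf y = 3) : InClass y := by
  have := Fact.mk Nat.prime_three
  have hr : orderOf (wordG (repWord 3)) = 3 := rep_spec (by simp)
  have h0 := three_checks
  simp only [Bool.and_eq_true, Nat.blt_eq] at h0
  have hbase : InClass (wordG (repWord 3)) :=
    ⟨0, by norm_num, by rw [M7.eq_of_beq h0.1, (wordG_den _).2]⟩
  have hsq : InClass (wordG (repWord 3) ^ 2) := by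
    have hk := inv_in_class
    simp only [Bool.and_eq_true, Nat.blt_eq] at hk
    refine ⟨threeSq, hk.1, ?_⟩
    rw [pow_two, val_mul, Val, ← (wordG_den _).2, ← M7.den_mul (wordG_den _).1 (wordG_den _).1,
      M7.eq_of_beq hk.2]
  obtain ⟨k, hk⟩ := conj_into (p := 3) (v := 1) (by rw [card_J1]; norm_num)
    (by rw [card_J1]; norm_num) (P := Subgroup.zpowers (wordG (repWord 3)))
    (by rw [Nat.card_zpowers, hr, pow_one]) hy
  have hcases : k * y * k⁻¹ = wordG (repWord 3) ∨ k * y * k⁻¹ = wordG (repWord 3) ^ 2 := by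
    obtain ⟨n, hn, e⟩ := (isOfFinOrder_of_finite _).mem_zpowers_iff_mem_range_orderOf.mp hk |>
      Finset.mem_image.mp
    rw [Finset.mem_range, hr] at hn
    interval_cases n
    · exfalso
      rw [pow_zero] at e
      have : orderOf (k * y * k⁻¹) = 3 := (orderOf_injective (MulAut.conj k).toMonoidHom
        (MulAut.conj k).injective y).trans hy
      rw [← e, orderOf_one] at this
      omega
    · exact Or.inl (by rw [← e, pow_one])
    · exact Or.inr e.symm
  have hy' : y = k⁻¹ * (k * y * k⁻¹) * (k⁻¹)⁻¹ := by group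
  rw [hy']
  rcases hcases with e | e <;> rw [e]
  · exact inClass_conj hbase _
  · exact inClass_conj hsq _

theorem invol_conj_tG {x : Spor.J1} (hx : orderOf x = 2) : ∃ g : Spor.J1, g * x * g⁻¹ = tG := by
  have := Fact.mk Nat.prime_two
  have key : ∀ y : Spor.J1, orderOf y = 2 → ∃ g : Spor.J1, g * y * g⁻¹ = wordG (repWord 2) := by
    intro y hy
    obtain ⟨k, hk⟩ := conj_into (v := 3) (by rw [card_J1]; norm_num) (by rw [card_J1]; norm_num)
      (P := subFour) (by rw [card_subFour]; rfl) hy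
    obtain ⟨j, hj, hje⟩ := hk
    rcases List.mem_cons.mp hj with rfl | hj
    · exfalso
      have h1' : k * y * k⁻¹ = 1 := j1_ext (by rw [hje, M7.eq_of_beq h_zero, den_idM]; rfl)
      rw [conj_eq_one_iff] at h1'
      rw [h1', orderOf_one] at hy
      omega
    · obtain ⟨⟨e1, e2⟩, he, rfl⟩ := List.mem_map.mp hj
      have h := List.all_eq_true.mp four_checks.2.2 _ he
      simp only [Bool.and_eq_true, Nat.blt_eq] at h
      obtain ⟨g, hg⟩ := hAt_mem e2 h.1
      have hlt := four_mem e1 (List.mem_cons_of_mem _ hj)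
      have e := congrArg M7.den (M7.eq_of_beq h.2)
      rw [M7.den_mul (hOk h.1) (hOk hlt), M7.den_mul (wordG_den _).1 (hOk h.1), ← hg, ← hje,
        (wordG_den _).2] at e
      have e' : g * (k * y * k⁻¹) = wordG (repWord 2) * g := j1_ext e
      refine ⟨g * k, ?_⟩
      rw [show g * k * y * (g * k)⁻¹ = g * (k * y * k⁻¹) * g⁻¹ by group, e', mul_inv_cancel_right]
  obtain ⟨g, hg⟩ := key x hx
  obtain ⟨h, hh⟩ := key tG orderOf_tG
  refine ⟨h⁻¹ * g, ?_⟩
  rw [show h⁻¹ * g * x * (h⁻¹ * g)⁻¹ = h⁻¹ * (g * x * g⁻¹) * h by group, hg, ← hh]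
  group

theorem cElt_val {c : ℕ} (hc : c < 120) : ∃ g : Spor.J1, g * tG = tG * g ∧
    (cElt c).Ok ∧ Val g = (cElt c).den := by
  unfold cElt
  cases hb : Nat.blt c 60
  · have h60 : c - 60 < 60 := by omega
    refine ⟨tG * kG (c - 60), by rw [mul_assoc, kG_comm h60], M7.ok_mul _ _, ?_⟩
    rw [cond_false, M7.den_mul tG_val.1 (kG_val h60).1, val_mul, Val, Val, tG_val.2,
      (kG_val h60).2]
  · rw [Nat.blt_eq] at hb
    exact ⟨kG c, kG_comm hb, (kG_val hb).1, (kG_val hb).2⟩

theorem rowPow_fix {l : List M7} {n : ℕ} {M : Matrix (Fin 7) (Fin 7) (ZMod 11)}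
    (hl : ∀ m ∈ l, m.Ok) (hM : (l.map M7.den).prod = M) (h : M ^ n = 1) : rowPow l n = row0 := by
  have hrow : OkRow row0 := by unfold row0 OkRow; decide
  have key : ∀ (l : List M7), (∀ m ∈ l, m.Ok) → ∀ v, OkRow v →
      OkRow (List.rec (motive := fun _ => ℕ → ℕ) (fun w => w) (fun m _ f w => f (rowMul w m)) l v) ∧
      denRow (List.rec (motive := fun _ => ℕ → ℕ) (fun w => w) (fun m _ f w => f (rowMul w m)) l v) =
        Matrix.vecMul (denRow v) (l.map M7.den).prod := by
    intro l
    induction l with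
    | nil => exact fun _ v hv => ⟨hv, by simp⟩
    | cons m l ih =>
      intro hl v hv
      obtain ⟨h1, h2⟩ := ih (fun x hx => hl x (List.mem_cons_of_mem _ hx)) (rowMul v m) (ok_nrm _)
      exact ⟨h1, by
        rw [List.map_cons, List.prod_cons, ← Matrix.vecMul_vecMul,
          ← denRow_rowMul hv (hl m List.mem_cons_self)]
        exact h2⟩
  have : ∀ k, OkRow (rowPow l k) ∧ denRow (rowPow l k) = Matrix.vecMul (denRow row0) (M ^ k) := by
    intro k
    induction k with
    | zero => exact ⟨hrow, by rw [pow_zero, Matrix.vecMul_one]; rfl⟩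
    | succ k ih =>
      obtain ⟨h1, h2⟩ := key l hl _ ih.1
      refine ⟨h1, h2.trans ?_⟩
      rw [hM, ih.2, Matrix.vecMul_vecMul, pow_succ]
  obtain ⟨h1, h2⟩ := this n
  rw [h, Matrix.vecMul_one] at h2
  exact denRow_inj h1 hrow h2

/-- The other generator. -/
theorem exists_bG : ∃ b : Spor.J1, Val b = (clM threeB).den := by
  have h0 := three_checks
  simp only [Bool.and_eq_true, Nat.blt_eq] at h0
  obtain ⟨g, hg⟩ := cls_mem threeB h0.2
  exact ⟨g, hg⟩

theorem inner (φ : MulAut Spor.J1) : ∃ g : Spor.J1, MulAut.conj g = φ := by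
  obtain ⟨b, hb⟩ := exists_bG
  have h0 := three_checks
  simp only [Bool.and_eq_true, Nat.blt_eq] at h0
  have hpair := pair_checks
  simp only [Bool.and_eq_true] at hpair
  obtain ⟨⟨⟨pX, pY⟩, p7⟩, p19⟩ := hpair
  have hword : ∀ w : List ℕ, (wordAB w).Ok ∧
      (wordAB w).den = Val ((w.map fun i => if i = 0 then tG else b).prod) := by
    intro w
    induction w with
    | nil => exact ⟨ok_idM, den_idM.trans rfl⟩
    | cons i w ih =>
      refine ⟨M7.ok_mul _ _, ?_⟩
      change ((cond (Nat.beq i 0) centT (clM threeB)).mul (wordAB w)).den = _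
      rw [List.map_cons, List.prod_cons, val_mul, ← ih.2]
      cases hi : Nat.beq i 0
      · rw [cond_false, M7.den_mul (cl_ok h0.2) ih.1, if_neg (Nat.ne_of_beq_eq_false hi), hb]
      · rw [cond_true, M7.den_mul tG_val.1 ih.1, if_pos (Nat.eq_of_beq_eq_true hi)]
        exact congrArg (· * _) tG_val.2.symm
  have hX : Subgroup.closure ({tG, b} : Set Spor.J1) = ⊤ := by
    have hmem : ∀ w : List ℕ, (w.map fun i => if i = 0 then tG else b).prod ∈
        Subgroup.closure ({tG, b} : Set Spor.J1) := by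
      intro w
      refine list_prod_mem fun x hx => ?_
      obtain ⟨i, -, rfl⟩ := List.mem_map.mp hx
      split_ifs <;> exact Subgroup.subset_closure (by simp)
    rw [eq_top_iff]
    intro z _
    have hle : Spor.J1 ≤ (Subgroup.closure ({tG, b} : Set Spor.J1)).map Spor.J1.subtype := by
      unfold Spor.J1
      rw [Subgroup.closure_le]
      intro w hw
      rcases hw with rfl | rfl
      · refine ⟨_, hmem genWordX, Units.ext ?_⟩
        exact ((hword genWordX).2.symm.trans (congrArg M7.den (M7.eq_of_beq pX))).trans den_genX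
      · refine ⟨_, hmem genWordY, Units.ext ?_⟩
        exact ((hword genWordY).2.symm.trans (congrArg M7.den (M7.eq_of_beq pY))).trans den_genY
    obtain ⟨w, hw, he⟩ := hle z.2
    exact (Subtype.ext he : w = z) ▸ hw
  have h7 : (tG * b) ^ 7 = 1 := by
    apply j1_ext
    have e := (hword [0, 1, 0, 1, 0, 1, 0, 1, 0, 1, 0, 1, 0, 1]).2
    rw [M7.eq_of_beq p7, den_idM] at e
    rw [show ((1 : Spor.J1).1 : Matrix (Fin 7) (Fin 7) (ZMod 11)) = 1 from rfl, e]
    simp [Val, pow_succ, mul_assoc]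
  have h19 : (tG * b * tG * b * b) ^ 19 = 1 := by
    apply j1_ext
    have e := (hword (List.replicate 19 [0, 1, 0, 1, 1]).flatten).2
    rw [M7.eq_of_beq p19, den_idM] at e
    rw [show ((1 : Spor.J1).1 : Matrix (Fin 7) (Fin 7) (ZMod 11)) = 1 from rfl, e]
    simp [Val, pow_succ, mul_assoc, List.replicate]
  obtain ⟨g₁, hg₁⟩ := invol_conj_tG (x := φ tG) (by rw [MulEquiv.orderOf_eq, orderOf_tG])
  let ψ : MulAut Spor.J1 := MulAut.conj g₁ * φ
  have hψt : ψ tG = tG := hg₁
  have hb3 : orderOf b = 3 := by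
    have := Fact.mk Nat.prime_three
    obtain ⟨k, hk⟩ := cls_conj threeB h0.2
    rw [show b = k * wordG (repWord 3) * k⁻¹ from j1_ext (hb.trans hk.symm)]
    exact (orderOf_injective (MulAut.conj k).toMonoidHom (MulAut.conj k).injective _).trans
      (rep_spec (by simp))
  obtain ⟨i, hi, hie⟩ := inClass_three (y := ψ b) (by rw [MulEquiv.orderOf_eq, hb3])
  have hv := allB_spec verdict_checks i hi
  simp only [Bool.or_eq_true, Bool.and_eq_true, Bool.not_eq_true', Nat.blt_eq] at hv
  have hT : ((tG : Spor.J1).1 : Matrix (Fin 7) (Fin 7) (ZMod 11)) = centT.den := tG_val.2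
  rcases hv with (⟨-, hv⟩ | ⟨-, hv⟩) | ⟨⟨-, hc⟩, hv⟩
  · exfalso
    have := rowPow_fix (l := [centT, clM i]) (n := 7) (M := Val (tG * ψ b))
      (by simp only [List.mem_cons, List.not_mem_nil, or_false]; rintro m (rfl | rfl)
          exacts [tG_val.1, cl_ok hi])
      (by simp [val_mul, Val, hT, ← hie])
      (by
        have e : (tG * ψ b) ^ 7 = 1 := by rw [← hψt, ← map_mul, ← map_pow, h7, map_one]
        simpa [Val] using congrArg Val e)
    rw [this] at hv
    simp at hv
  · exfalso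
    have := rowPow_fix (l := [centT, clM i, centT, clM i, clM i]) (n := 19)
      (M := Val (tG * ψ b * tG * ψ b * ψ b))
      (by simp only [List.mem_cons, List.not_mem_nil, or_false]
          rintro m (rfl | rfl | rfl | rfl | rfl)
          exacts [tG_val.1, cl_ok hi, tG_val.1, cl_ok hi, cl_ok hi])
      (by simp [val_mul, Val, hT, ← hie, mul_assoc])
      (by
        have e : (tG * ψ b * tG * ψ b * ψ b) ^ 19 = 1 := by
          rw [← hψt]; simp only [← map_mul, ← map_pow, h19, map_one]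
        simpa [Val] using congrArg Val e)
    rw [this] at hv
    simp at hv
  · obtain ⟨c, hct, hcok, hcv⟩ := cElt_val hc
    have e := congrArg M7.den (M7.eq_of_beq hv)
    rw [M7.den_mul hcok (cl_ok h0.2), M7.den_mul (cl_ok hi) hcok, ← hcv, ← hie, ← hb] at e
    have e' : c * b = ψ b * c := j1_ext e
    have hψ : ψ = MulAut.conj c := by
      have hh : ψ.toMonoidHom = (MulAut.conj c).toMonoidHom := by
        refine MonoidHom.eq_of_eqOn_dense hX ?_
        rintro x (rfl | rfl)
        · change ψ tG = c * tG * c⁻¹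
          rw [hψt, hct, mul_inv_cancel_right]
        · change ψ _ = c * _ * c⁻¹
          rw [e', mul_inv_cancel_right]
      exact MulEquiv.ext fun x => DFunLike.congr_fun hh x
    refine ⟨g₁⁻¹ * c, ?_⟩
    rw [map_mul, ← hψ, map_inv, inv_mul_cancel_left]

theorem card_out : Nat.card (Out Spor.J1) = 1 := by
  rw [show Out Spor.J1 = (MulAut Spor.J1 ⧸ Inn Spor.J1) from rfl]
  have h : Inn Spor.J1 = ⊤ := by
    rw [eq_top_iff]
    intro φ _
    obtain ⟨g, rfl⟩ := inner φ
    exact ⟨g, rfl⟩
  exact (Subgroup.index_eq_one (H := Inn Spor.J1)).mpr h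

end Cfsg.Agent.JankoOne
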