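import Cfsg.Agent.JankoOne.Simple
import Cfsg.Agent.JankoOne.CentData
import Mathlib.GroupTheory.SpecificGroups.Alternating

/-!
The centraliser of an involution of `J1` is the product of a group of order two and the
alternating group of degree five.
-/

set_option autoImplicit false

namespace Cfsg.Agent.JankoOne

open Equiv (Perm)

noncomputable def kM (i : ℕ) : M7 := tget idM kElts i
noncomputable def kW (i : ℕ) : List ℕ := getN [] kWords i
noncomputable def kT (i j : ℕ) : ℕ := getN 0 (tget [] kMul i) j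
noncomputable def mvM (i : ℕ) : M7 := tget idM cMovers i
noncomputable def imM (i : ℕ) : M7 := tget idM cImages i
noncomputable def ordI (i : ℕ) : ℕ := tget 0 cOrder i

/-- A key of a packed matrix. -/
def M7.keyN (A : M7) : ℕ :=
  A.r0 + 1180591620717411303424 * (A.r1 + 1180591620717411303424 * (A.r2 +
    1180591620717411303424 * (A.r3 + 1180591620717411303424 * (A.r4 +
      1180591620717411303424 * (A.r5 + 1180591620717411303424 * A.r6)))))

/-- The permutation of the five points as numbers. -/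
def pVal (i x : ℕ) : ℕ :=
  (kPerm ⟨i % 60, Nat.mod_lt _ (by norm_num)⟩ ⟨x % 5, Nat.mod_lt _ (by norm_num)⟩).val

theorem cent_basic : (M7.beq (wordM centTWord) centT && M7.beq (centT.mul centT) idM &&
    !(M7.beq centT idM)) = true := by decide +kernel

theorem k_words : allB 60 (fun i => M7.beq (wordM (kW i)) (kM i) &&
    M7.beq ((kM i).mul centT) (centT.mul (kM i))) = true := by decide +kernel

theorem k_table : allB 60 (fun i => allB 60 (fun j => Nat.blt (kT i j) 60 &&
    M7.beq ((kM i).mul (kM j)) (kM (kT i j)) &&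
    allB 5 (fun x => Nat.beq (pVal i (pVal j x)) (pVal (kT i j) x)))) = true := by decide +kernel

theorem k_distinct : allB 60 (fun i => allB 60 (fun j =>
    (Nat.beq i j || !(M7.beq (kM i) (kM j))) && !(M7.beq (centT.mul (kM j)) (kM i)))) = true := by
  decide +kernel

theorem k_perm_surj : ∀ σ : alternatingGroup (Fin 5), ∃ i : Fin 60, ∀ x, σ.1 x = kPerm i x := by
  decide +kernel

theorem k_perm_inj : ∀ i j : Fin 60, (∀ x, kPerm i x = kPerm j x) → i = j := by decide +kernel

theorem mover_checks : allB 1463 (fun i =>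
    (imM i).okb && (mvM i).okb && M7.beq ((imM i).mul (mvM i)) ((mvM i).mul centT) &&
      ((Nat.beq i 0 && M7.beq (mvM i) idM) || (Nat.blt (tget ((0, 0) : ℕ × ℕ) cTree i).2 i &&
        M7.beq ((cond (Nat.beq (tget ((0, 0) : ℕ × ℕ) cTree i).1 0) genX genY).mul
          (mvM (tget ((0, 0) : ℕ × ℕ) cTree i).2)) (mvM i)))) = true := by decide +kernel

theorem order_checks : allB 1463 (fun i => Nat.blt (ordI i) 1463 &&
    (Nat.blt 1461 i || Nat.blt (imM (ordI i)).keyN (imM (ordI (i + 1))).keyN)) = true := by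
  decide +kernel

theorem mover_mem : ∀ i, i < 1463 →
    ∃ g : Spor.J1, (g.1 : Matrix (Fin 7) (Fin 7) (ZMod 11)) = (mvM i).den := by
  intro i
  induction i using Nat.strong_induction_on with
  | _ i ih =>
  intro hi
  have h := allB_spec mover_checks i hi
  simp only [Bool.and_eq_true, Bool.or_eq_true, Nat.beq_eq, Nat.blt_eq] at h
  rcases h.2 with ⟨-, hb⟩ | ⟨hp, hb⟩
  · exact ⟨1, by rw [M7.eq_of_beq hb, den_idM]; rfl⟩
  obtain ⟨g, hg⟩ := ih _ hp (hp.trans hi)
  have hok : (mvM (tget ((0, 0) : ℕ × ℕ) cTree i).2).Ok := by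
    have h' := allB_spec mover_checks _ (hp.trans hi)
    simp only [Bool.and_eq_true] at h'
    exact M7.ok_of_okb h'.1.1.2
  rw [← M7.eq_of_beq hb]
  cases Nat.beq (tget ((0, 0) : ℕ × ℕ) cTree i).1 0
  · refine ⟨wordG [1] * g, ?_⟩
    rw [cond_false, M7.den_mul genOk.2.1 hok, ← hg, den_genY]
    simp [wordG]
    rfl
  · refine ⟨wordG [0] * g, ?_⟩
    rw [cond_true, M7.den_mul genOk.1 hok, ← hg, den_genX]
    simp [wordG]
    rfl

theorem conj_distinct : ∀ i < 1463, ∀ j < 1463, i < j →
    (imM (ordI i)).den ≠ (imM (ordI j)).den := by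
  intro i hi j hj hij e
  have hlt : ∀ n, n < 1463 → i < n → (imM (ordI i)).keyN < (imM (ordI n)).keyN := by
    intro n
    induction n with
    | zero => intro _ h; omega
    | succ n ih =>
      intro hn hin
      have h := allB_spec order_checks n (by omega)
      simp only [Bool.and_eq_true, Bool.or_eq_true, Nat.blt_eq] at h
      rcases h.2 with h2 | h2
      · omega
      · rcases Nat.eq_or_lt_of_le (Nat.le_of_lt_succ hin) with rfl | hlt
        · exact h2
        · exact (ih (by omega) hlt).trans h2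
  have hok : ∀ n < 1463, (imM (ordI n)).Ok := fun n hn => by
    have h := allB_spec order_checks n hn
    simp only [Bool.and_eq_true, Nat.blt_eq] at h
    have h' := allB_spec mover_checks _ h.1
    simp only [Bool.and_eq_true] at h'
    exact M7.ok_of_okb h'.1.1.1
  have h := hlt j hj hij
  rw [M7.den_inj (hok i hi) (hok j hj) e] at h
  exact lt_irrefl _ h

/-- The involution. -/
noncomputable def tG : Spor.J1 := wordG centTWord

/-- The elements of the complement. -/
noncomputable def kG (i : ℕ) : Spor.J1 := wordG (kW i)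

theorem tG_val : centT.Ok ∧
    (tG.1 : Matrix (Fin 7) (Fin 7) (ZMod 11)) = centT.den := by
  have h := cent_basic
  simp only [Bool.and_eq_true] at h
  rw [← M7.eq_of_beq h.1.1]
  exact ⟨(wordG_den _).1, ((wordG_den _).2).symm⟩

theorem kG_val {i : ℕ} (hi : i < 60) : (kM i).Ok ∧
    ((kG i).1 : Matrix (Fin 7) (Fin 7) (ZMod 11)) = (kM i).den := by
  have h := allB_spec k_words i hi
  simp only [Bool.and_eq_true] at h
  rw [← M7.eq_of_beq h.1]
  exact ⟨(wordG_den _).1, ((wordG_den _).2).symm⟩

theorem tG_sq : tG * tG = 1 := by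
  have h := cent_basic
  simp only [Bool.and_eq_true] at h
  apply j1_ext
  rw [Subgroup.coe_mul, Units.val_mul, tG_val.2, ← M7.den_mul tG_val.1 tG_val.1,
    M7.eq_of_beq h.1.2, den_idM]
  rfl

theorem orderOf_tG : orderOf tG = 2 := by
  have := Fact.mk Nat.prime_two
  refine orderOf_eq_prime (by rw [sq]; exact tG_sq) fun e => ?_
  have h := cent_basic
  simp only [Bool.and_eq_true, Bool.not_eq_true'] at h
  have : centT = idM := M7.den_inj tG_val.1 ok_idM (by rw [← tG_val.2, e, den_idM]; rfl)
  rw [this] at h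
  simp [M7.beq] at h

theorem kG_comm {i : ℕ} (hi : i < 60) : kG i * tG = tG * kG i := by
  have h := allB_spec k_words i hi
  simp only [Bool.and_eq_true] at h
  apply j1_ext
  simp only [Subgroup.coe_mul, Units.val_mul]
  rw [(kG_val hi).2, tG_val.2, ← M7.den_mul (kG_val hi).1 tG_val.1, M7.eq_of_beq h.2,
    M7.den_mul tG_val.1 (kG_val hi).1]

theorem kG_mul {i j : ℕ} (hi : i < 60) (hj : j < 60) :
    kT i j < 60 ∧ kG i * kG j = kG (kT i j) := by
  have h := allB_spec (allB_spec k_table i hi) j hj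
  simp only [Bool.and_eq_true, Nat.blt_eq] at h
  refine ⟨h.1.1, j1_ext ?_⟩
  rw [Subgroup.coe_mul, Units.val_mul, (kG_val hi).2, (kG_val hj).2,
    ← M7.den_mul (kG_val hi).1 (kG_val hj).1, M7.eq_of_beq h.1.2, (kG_val h.1.1).2]

theorem kG_inj {i j : ℕ} (hi : i < 60) (hj : j < 60) :
    (kG i = kG j → i = j) ∧ tG * kG j ≠ kG i := by
  have h := allB_spec (allB_spec k_distinct i hi) j hj
  simp only [Bool.and_eq_true, Bool.or_eq_true, Nat.beq_eq, Bool.not_eq_true'] at h
  refine ⟨fun e => ?_, fun e => ?_⟩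
  · rcases h.1 with h1 | h1
    · exact h1
    · have : kM i = kM j := M7.den_inj (kG_val hi).1 (kG_val hj).1 (by
        rw [← (kG_val hi).2, ← (kG_val hj).2, e])
      rw [this] at h1
      simp [M7.beq] at h1
  · have : centT.mul (kM j) = kM i := M7.den_inj (M7.ok_mul _ _) (kG_val hi).1 (by
      rw [M7.den_mul tG_val.1 (kG_val hj).1, ← (kG_val hi).2, ← e, Subgroup.coe_mul, Units.val_mul,
        tG_val.2, (kG_val hj).2])
    rw [this] at h
    simp [M7.beq] at h

/-- The index of an even permutation. -/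
noncomputable def kIdx (σ : alternatingGroup (Fin 5)) : Fin 60 := (k_perm_surj σ).choose

theorem kIdx_spec (σ : alternatingGroup (Fin 5)) : ∀ x, σ.1 x = kPerm (kIdx σ) x :=
  (k_perm_surj σ).choose_spec

theorem kIdx_mul (σ τ : alternatingGroup (Fin 5)) :
    (kIdx (σ * τ) : ℕ) = kT (kIdx σ) (kIdx τ) := by
  have h := allB_spec (allB_spec k_table _ (kIdx σ).2) _ (kIdx τ).2
  simp only [Bool.and_eq_true, Nat.blt_eq] at h
  have hlt := h.1.1
  refine congrArg Fin.val (k_perm_inj (kIdx (σ * τ)) ⟨_, hlt⟩ fun x => ?_)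
  rw [← kIdx_spec]
  have h2 := allB_spec h.2 x.1 x.2
  rw [Nat.beq_eq] at h2
  have e : ∀ (i : Fin 60) (y : Fin 5), pVal i.1 y.1 = (kPerm i y).val := fun i y => by
    unfold pVal
    congr 2 <;> exact Fin.ext (Nat.mod_eq_of_lt (by omega))
  rw [e (kIdx τ) x, ← kIdx_spec τ x, e (kIdx σ), ← kIdx_spec σ, e ⟨_, hlt⟩ x] at h2
  apply Fin.ext
  rw [← h2]
  rfl

/-- The sign part. -/
noncomputable def tPow (a : Multiplicative (ZMod 2)) : Spor.J1 := if a = 1 then 1 else tG

theorem tPow_mul (a b : Multiplicative (ZMod 2)) : tPow (a * b) = tPow a * tPow b := by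
  have hcases : ∀ c : Multiplicative (ZMod 2), c = 1 ∨ c = Multiplicative.ofAdd 1 := by decide
  have hne : (Multiplicative.ofAdd (1 : ZMod 2)) ≠ 1 := by decide
  have hsq : (Multiplicative.ofAdd (1 : ZMod 2)) * Multiplicative.ofAdd 1 = 1 := by decide
  rcases hcases a with rfl | rfl <;> rcases hcases b with rfl | rfl <;>
    simp [tPow, hne, hsq, tG_sq]

attribute [local irreducible] tG kG kIdx

theorem tPow_comm (a : Multiplicative (ZMod 2)) (i : ℕ) (hi : i < 60) :
    tPow a * kG i = kG i * tPow a := by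
  unfold tPow
  split_ifs
  · rw [one_mul, mul_one]
  · exact (kG_comm hi).symm

theorem tPow_comm_tG (a : Multiplicative (ZMod 2)) : tPow a * tG = tG * tPow a := by
  unfold tPow
  split_ifs
  · rw [one_mul, mul_one]
  · rfl

theorem tPow_one : tPow 1 = 1 := by
  unfold tPow
  rw [if_pos rfl]

theorem kG_kIdx_one : kG (kIdx 1) = 1 := by
  have e : kG (kIdx 1) * kG (kIdx 1) = kG (kIdx 1) := by
    rw [(kG_mul (kIdx 1).2 (kIdx 1).2).2, ← kIdx_mul, mul_one]
  exact mul_eq_left.mp e

theorem prod_mem (a : Multiplicative (ZMod 2)) (i : ℕ) (hi : i < 60) :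
    tPow a * kG i ∈ Subgroup.centralizer ({tG} : Set Spor.J1) := by
  rw [Subgroup.mem_centralizer_singleton_iff, mul_assoc, kG_comm hi, ← mul_assoc, ← mul_assoc,
    tPow_comm_tG]

theorem prod_mul (a b : Multiplicative (ZMod 2)) (σ τ : alternatingGroup (Fin 5)) :
    tPow (a * b) * kG (kIdx (σ * τ)) = tPow a * kG (kIdx σ) * (tPow b * kG (kIdx τ)) := by
  rw [tPow_mul, kIdx_mul, ← (kG_mul (kIdx σ).2 (kIdx τ).2).2, mul_assoc (tPow a) (kG _) _,
    ← mul_assoc (kG (kIdx σ)) (tPow b), ← tPow_comm b _ (kIdx σ).2]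
  simp only [mul_assoc]

/-- The product group inside the centraliser. -/
noncomputable def prodHom : Multiplicative (ZMod 2) × alternatingGroup (Fin 5) →*
    Subgroup.centralizer ({tG} : Set Spor.J1) where
  toFun x := ⟨tPow x.1 * kG (kIdx x.2), prod_mem x.1 _ (kIdx x.2).2⟩
  map_one' := Subtype.ext (by
    change tPow 1 * kG (kIdx 1) = 1
    rw [tPow_one, kG_kIdx_one, one_mul])
  map_mul' x y := Subtype.ext (prod_mul x.1 y.1 x.2 y.2)

theorem prodHom_injective : Function.Injective prodHom := by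
  intro x y h
  have e : tPow x.1 * kG (kIdx x.2) = tPow y.1 * kG (kIdx y.2) := congrArg Subtype.val h
  have hsecond : kG (kIdx x.2) = kG (kIdx y.2) → x.2 = y.2 := fun hk => by
    have hi := Fin.ext ((kG_inj (kIdx x.2).2 (kIdx y.2).2).1 hk)
    exact Subtype.ext (Equiv.ext fun z => by rw [kIdx_spec, kIdx_spec, hi])
  have hfst : ∀ a b : Multiplicative (ZMod 2), (a = 1 ↔ b = 1) → a = b := by decide
  unfold tPow at e
  split_ifs at e with h1 h2 h3
  · rw [one_mul, one_mul] at e; exact Prod.ext (h1.trans h2.symm) (hsecond e)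
  · rw [one_mul] at e; exact absurd e.symm (kG_inj (kIdx x.2).2 (kIdx y.2).2).2
  · rw [one_mul] at e; exact absurd e (kG_inj (kIdx y.2).2 (kIdx x.2).2).2
  · exact Prod.ext (hfst _ _ ⟨fun h => absurd h h1, fun h => absurd h h3⟩)
      (hsecond (mul_left_cancel e))

theorem card_cent_le : Nat.card (Subgroup.centralizer ({tG} : Set Spor.J1)) ≤ 120 := by
  have hord : ∀ i : Fin 1463, ordI i.1 < 1463 := fun i => by
    have h := allB_spec order_checks i.1 i.2
    simp only [Bool.and_eq_true, Nat.blt_eq] at h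
    exact h.1
  choose g hg using fun i : Fin 1463 => mover_mem _ (hord i)
  have hconj : ∀ (i : Fin 1463) (c : Subgroup.centralizer ({tG} : Set Spor.J1)),
      (((g i * c.1) * tG * (g i * c.1)⁻¹ : Spor.J1).1 : Matrix (Fin 7) (Fin 7) (ZMod 11)) =
        (imM (ordI i)).den := by
    intro i c
    have h := allB_spec mover_checks _ (hord i)
    simp only [Bool.and_eq_true] at h
    have hy := M7.ok_of_okb h.1.1.1
    have hm := M7.ok_of_okb h.1.1.2
    have e := congrArg M7.den (M7.eq_of_beq h.1.2)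
    rw [M7.den_mul hy hm, M7.den_mul hm tG_val.1, ← hg i, ← tG_val.2] at e
    have hc := Subgroup.mem_centralizer_singleton_iff.mp c.2
    rw [show (g i * c.1) * tG * (g i * c.1)⁻¹ = g i * tG * (g i)⁻¹ by
      rw [mul_assoc (g i), hc]; group]
    simp only [Subgroup.coe_mul, Units.val_mul, InvMemClass.coe_inv]
    rw [← e, mul_assoc, ← Units.val_mul, mul_inv_cancel, Units.val_one, mul_one]
  have hf : Function.Injective
      (fun x : Fin 1463 × Subgroup.centralizer ({tG} : Set Spor.J1) => g x.1 * x.2.1) := by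
    rintro ⟨i, a⟩ ⟨j, b⟩ h
    have h' : g i * a.1 = g j * b.1 := h
    have hij : i = j := by
      by_contra hne
      have e : (imM (ordI i)).den = (imM (ordI j)).den := by rw [← hconj i a, ← hconj j b, h']
      rcases Nat.lt_or_gt_of_ne (fun e' => hne (Fin.ext e')) with hlt | hlt
      · exact conj_distinct i i.2 j j.2 hlt e
      · exact conj_distinct j j.2 i i.2 hlt e.symm
    subst hij
    exact Prod.ext rfl (Subtype.ext (mul_left_cancel h'))
  have := Nat.card_le_card_of_injective _ hf
  rw [Nat.card_prod, Nat.card_fin, card_J1] at this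
  omega

/-- The centraliser of the involution. -/
theorem nonempty_cent_equiv :
    Nonempty (Subgroup.centralizer ({tG} : Set Spor.J1) ≃*
      Multiplicative (ZMod 2) × alternatingGroup (Fin 5)) := by
  have h60 : Nat.card (alternatingGroup (Fin 5)) = 60 := by
    rw [Nat.card_eq_fintype_card]; decide +kernel
  have h2 : Nat.card (Multiplicative (ZMod 2)) = 2 := by
    rw [Nat.card_congr Multiplicative.toAdd]; exact Nat.card_zmod 2
  refine ⟨(MulEquiv.ofBijective prodHom ((Nat.bijective_iff_injective_and_card _).mpr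
    ⟨prodHom_injective, le_antisymm (Nat.card_le_card_of_injective _ prodHom_injective) ?_⟩)).symm⟩
  rw [Nat.card_prod, h2, h60]
  exact card_cent_le

end Cfsg.Agent.JankoOne
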