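import Cfsg.Agent.JankoOne.Checks
import Cfsg.Prelude.Def_Spor_J1

/-!
The element orders of the matrix group `J1`: every element has order dividing one of
`6, 10, 15, 7, 11, 19`, and all six occur.
-/

set_option autoImplicit false

namespace Cfsg.Agent.JankoOne

theorem hOk {j : ℕ} (hj : j < 168) : (hAt j).Ok := M7.ok_of_okb (allB_spec h_ok j hj)

theorem tOk {k : ℕ} (hk : k < 1045) : (tAt k).Ok := M7.ok_of_okb (allB_spec t_ok k hk)

theorem genOk : genX.Ok ∧ genY.Ok ∧ genB.Ok := by
  have h := gens_ok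
  simp only [Bool.and_eq_true] at h
  exact ⟨M7.ok_of_okb h.1.1, M7.ok_of_okb h.1.2, M7.ok_of_okb h.2⟩

theorem mulH {g : M7} (hg : g.Ok) {tbl : List (List ℕ)} (h : allB 168 (chkH g tbl) = true)
    {j : ℕ} (hj : j < 168) : ∃ l < 168, g.den * (hAt j).den = (hAt l).den := by
  have h' := allB_spec h j hj
  simp only [chkH, Bool.and_eq_true, Nat.blt_eq] at h'
  exact ⟨_, h'.1, by rw [← M7.den_mul hg (hOk hj), M7.eq_of_beq h'.2]⟩

theorem h_closed : ∀ i, i < 168 → ∀ j, j < 168 →
    ∃ l < 168, (hAt i).den * (hAt j).den = (hAt l).den := by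
  intro i
  induction i using Nat.strong_induction_on with
  | _ i ih =>
  intro hi j hj
  rcases Nat.eq_zero_or_pos i with rfl | hpos
  · exact ⟨j, hj, by rw [M7.eq_of_beq h_zero, den_idM, one_mul]⟩
  have h' := allB_spec h_par i hi
  simp only [chkPar, Bool.or_eq_true, Bool.and_eq_true, Nat.blt_eq] at h'
  rcases h' with h' | ⟨⟨hp, hp2⟩, hb⟩
  · omega
  obtain ⟨l, hl, e⟩ := ih _ hp (hp.trans hi) j hj
  have hgo : (cond (Nat.beq (tget ((0, 0) : ℕ × ℕ) hPar i).2 0) genX genB).Ok := by
    cases Nat.beq (tget ((0, 0) : ℕ × ℕ) hPar i).2 0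
    · exact genOk.2.2
    · exact genOk.1
  rw [← M7.eq_of_beq hb, M7.den_mul hgo (hOk (hp.trans hi)), mul_assoc, e]
  cases Nat.beq (tget ((0, 0) : ℕ × ℕ) hPar i).2 0
  · exact mulH genOk.2.2 h_mulB hl
  · exact mulH genOk.1 h_mulX hl

/-- The set of matrices `t h`. -/
def certSet : Set (Matrix (Fin 7) (Fin 7) (ZMod 11)) :=
  {M | ∃ k < 1045, ∃ j < 168, M = (tAt k).den * (hAt j).den}

theorem one_mem_certSet : (1 : Matrix (Fin 7) (Fin 7) (ZMod 11)) ∈ certSet :=
  ⟨0, by norm_num, 0, by norm_num,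
    by rw [M7.eq_of_beq t_zero, M7.eq_of_beq h_zero, den_idM, one_mul]⟩

theorem left_closed {g : M7} (hg : g.Ok) {tbl : List (List (ℕ × ℕ))}
    (h : allB 1045 (chkT g tbl) = true) {M : Matrix (Fin 7) (Fin 7) (ZMod 11)} (hM : M ∈ certSet) :
    g.den * M ∈ certSet := by
  obtain ⟨k, hk, j, hj, rfl⟩ := hM
  have h' := allB_spec h k hk
  simp only [chkT, Bool.and_eq_true, Nat.blt_eq] at h'
  obtain ⟨⟨h1, h2⟩, hb⟩ := h'
  obtain ⟨l, hl, e⟩ := h_closed _ h2 j hj
  exact ⟨_, h1, l, hl, by
    rw [← mul_assoc, ← M7.den_mul hg (tOk hk), M7.eq_of_beq hb, M7.den_mul (tOk h1) (hOk h2),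
      mul_assoc, e]⟩

theorem den_genX : genX.den = jankoMatrixX := by decide +kernel

theorem den_genY : genY.den = jankoMatrixY := by decide +kernel

theorem mem_certSet {g : GL (Fin 7) (ZMod 11)} (hg : g ∈ Spor.J1) :
    (g : Matrix (Fin 7) (Fin 7) (ZMod 11)) ∈ certSet := by
  suffices h : ∀ M ∈ certSet, (g : Matrix (Fin 7) (Fin 7) (ZMod 11)) * M ∈ certSet by
    simpa using h 1 one_mem_certSet
  induction hg using Subgroup.closure_induction with
  | mem x hx =>
    intro M hM
    rcases hx with rfl | rfl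
    · have h := left_closed genOk.1 t_mulX hM
      rw [den_genX] at h
      exact h
    · have h := left_closed genOk.2.1 t_mulY hM
      rw [den_genY] at h
      exact h
  | one => intro M hM; simpa using hM
  | mul x y _ _ hx hy =>
    intro M hM
    rw [Units.val_mul, mul_assoc]
    exact hx _ (hy M hM)
  | inv x _ hx =>
    have hpow : ∀ n : ℕ, ∀ M ∈ certSet,
        ((x ^ n : GL (Fin 7) (ZMod 11)) : Matrix (Fin 7) (Fin 7) (ZMod 11)) * M ∈ certSet := by
      intro n
      induction n with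
      | zero => intro M hM; simpa using hM
      | succ n ih =>
        intro M hM
        rw [pow_succ, Units.val_mul, mul_assoc]
        exact ih _ (hx M hM)
    intro M hM
    obtain ⟨n, hn⟩ := mem_powers_iff_mem_zpowers.mpr (Subgroup.inv_mem _ (Subgroup.mem_zpowers x))
    simp only at hn
    rw [← hn]
    exact hpow n M hM

theorem powTag_den {g : M7} (hg : g.Ok) (t : ℕ) :
    ∃ n ∈ [6, 10, 15, 7, 11, 19], (powTag g t).den = g.den ^ n := by
  have d : ∀ A B : M7, A.Ok → B.Ok → (A.mul B).den = A.den * B.den := fun A B a b => M7.den_mul a b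
  match t with
  | 0 => exact ⟨6, by simp, by simp [powTag, d, M7.ok_mul, hg, pow_succ, mul_assoc]⟩
  | 1 => exact ⟨10, by simp, by simp [powTag, d, M7.ok_mul, hg, pow_succ, mul_assoc]⟩
  | 2 => exact ⟨15, by simp, by simp [powTag, d, M7.ok_mul, hg, pow_succ, mul_assoc]⟩
  | 3 => exact ⟨7, by simp, by simp [powTag, d, M7.ok_mul, hg, pow_succ, mul_assoc]⟩
  | 4 => exact ⟨11, by simp, by simp [powTag, d, M7.ok_mul, hg, pow_succ, mul_assoc]⟩
  | n + 5 => exact ⟨19, by simp, by simp [powTag, d, M7.ok_mul, hg, pow_succ, mul_assoc]⟩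

/-- Every element of `J1` has order dividing one of six numbers. -/
theorem j1_pow (g : Spor.J1) : ∃ n ∈ [6, 10, 15, 7, 11, 19], g ^ n = 1 := by
  obtain ⟨k, hk, j, hj, e⟩ := mem_certSet g.2
  have hd := allB_spec t_dc k hk
  simp only [chkDc, Bool.and_eq_true, Nat.blt_eq] at hd
  obtain ⟨⟨⟨ha, hr⟩, hi⟩, hb⟩ := hd
  set p := tget ((0, 0, 0) : ℕ × ℕ × ℕ) tDc k
  obtain ⟨l, hl, el⟩ := h_closed _ hi j hj
  obtain ⟨c, hc, ec⟩ := h_closed l hl p.1 ha
  have hR : getN 0 dReps p.2.1 < 1045 := by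
    have : allB 11 (fun r => Nat.blt (getN 0 dReps r) 1045) = true := by decide +kernel
    simpa [Nat.blt_eq] using allB_spec this _ hr
  set R := tAt (getN 0 dReps p.2.1)
  have hg : (g.1 : Matrix (Fin 7) (Fin 7) (ZMod 11)) = (hAt p.1).den * (R.den * (hAt l).den) := by
    rw [e, ← M7.eq_of_beq hb, M7.den_mul (M7.ok_mul _ _) (hOk hi),
      M7.den_mul (hOk ha) (tOk hR), mul_assoc, mul_assoc, el]
  have ho := allB_spec (allB_spec ord_ok _ hr) c hc
  simp only [chkOrd] at ho
  obtain ⟨n, hn, en⟩ := powTag_den (M7.ok_mul R (hAt c)) (tget 0 (getN [] dTags p.2.1) c)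
  rw [M7.eq_of_beq ho, den_idM, M7.den_mul (tOk hR) (hOk hc), ← ec, ← mul_assoc] at en
  refine ⟨n, hn, Subtype.ext (Units.ext ?_)⟩
  rw [Subgroup.coe_pow, Units.val_pow_eq_pow_val, Subgroup.coe_one, Units.val_one]
  set a := (hAt p.1).den
  set x := R.den * (hAt l).den
  have hxy : (a * x) * (a * x) ^ n = a * x := by
    have key : ∀ m : ℕ, (a * x) * (a * x) ^ m = a * (x * a) ^ m * x := by
      intro m
      induction m with
      | zero => simp
      | succ m ih => rw [pow_succ, ← mul_assoc, ih, pow_succ]; simp only [mul_assoc]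
    rw [key, ← en, mul_one]
  rw [← hg] at hxy
  calc (g.1 : Matrix (Fin 7) (Fin 7) (ZMod 11)) ^ n
      = ((g.1⁻¹ : GL (Fin 7) (ZMod 11)) : Matrix (Fin 7) (Fin 7) (ZMod 11)) *
          ((g.1 : Matrix (Fin 7) (Fin 7) (ZMod 11)) * (g.1 : Matrix (Fin 7) (Fin 7) (ZMod 11)) ^ n) := by
        rw [← mul_assoc, ← Units.val_mul, inv_mul_cancel, Units.val_one, one_mul]
    _ = 1 := by rw [hxy, ← Units.val_mul, inv_mul_cancel, Units.val_one]

/-- A word in the generators, as an element. -/
noncomputable def wordG : List ℕ → Spor.J1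
  | [] => 1
  | i :: w => (if i = 0 then ⟨Spor.jankoX, Subgroup.subset_closure (Or.inl rfl)⟩
      else ⟨Spor.jankoY, Subgroup.subset_closure (Or.inr rfl)⟩) * wordG w

theorem wordG_den : ∀ w : List ℕ,
    (wordM w).Ok ∧ (wordM w).den = ((wordG w).1 : Matrix (Fin 7) (Fin 7) (ZMod 11))
  | [] => ⟨ok_idM, den_idM⟩
  | i :: w => by
    obtain ⟨hok, hd⟩ := wordG_den w
    refine ⟨M7.ok_mul _ _, ?_⟩
    show ((cond (Nat.beq i 0) genX genY).mul (wordM w)).den = _
    rw [wordG, Subgroup.coe_mul, Units.val_mul]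
    rcases i with _ | i
    · rw [show Nat.beq 0 0 = true from rfl, cond_true, M7.den_mul genOk.1 hok, hd, den_genX]
      rfl
    · rw [show Nat.beq (i + 1) 0 = false from rfl, cond_false, M7.den_mul genOk.2.1 hok, hd,
        den_genY, if_neg (by omega)]
      rfl

theorem orderOf_word {w : List ℕ} {n : ℕ} (h0 : 0 < n) {q : List ℕ}
    (hq : ∀ r, r.Prime → r ∣ n → n / r ∈ q) (hp : (wordM w).den ^ n = 1)
    (hne : ∀ m ∈ q, (wordM w).den ^ m ≠ 1) : orderOf (wordG w) = n := by
  refine orderOf_eq_of_pow_and_pow_div_prime h0 (Subtype.ext (Units.ext ?_)) fun r hr hrn h => ?_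
  · rw [Subgroup.coe_pow, Units.val_pow_eq_pow_val, ← (wordG_den w).2, hp]
    rfl
  · apply hne _ (hq r hr hrn)
    rw [(wordG_den w).2, ← Units.val_pow_eq_pow_val, ← Subgroup.coe_pow, h]
    rfl

/-- Each of the six numbers is an element order of `J1`. -/
theorem j1_exists_order : ∀ n ∈ [6, 10, 15, 7, 11, 19], ∃ g : Spor.J1, orderOf g = n := by
  have hprime : ∀ n ≤ 19, ∀ r, r.Prime → r ∣ n → 0 < n →
      r ∈ [2, 3, 5, 7, 11, 13, 17, 19] := by
    intro n hn r hr hd h0
    have hle : r ≤ 19 := (Nat.le_of_dvd h0 hd).trans hn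
    interval_cases r <;> simp_all (config := { decide := true })
  intro n hn
  simp only [List.mem_cons, List.not_mem_nil, or_false] at hn
  rcases hn with rfl | rfl | rfl | rfl | rfl | rfl
  · exact ⟨wordG [1, 1, 1, 0], orderOf_word (q := [3, 2]) (by norm_num) (fun r hr hd => by
      have := hprime 6 (by norm_num) r hr hd (by norm_num)
      simp only [List.mem_cons, List.not_mem_nil, or_false] at this
      rcases this with rfl | rfl | rfl | rfl | rfl | rfl | rfl | rfl <;> simp_all (config := { decide := true })) (by decide +kernel) (by decide +kernel)⟩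
  · exact ⟨wordG [1, 0], orderOf_word (q := [5, 2]) (by norm_num) (fun r hr hd => by
      have := hprime 10 (by norm_num) r hr hd (by norm_num)
      simp only [List.mem_cons, List.not_mem_nil, or_false] at this
      rcases this with rfl | rfl | rfl | rfl | rfl | rfl | rfl | rfl <;> simp_all (config := { decide := true })) (by decide +kernel) (by decide +kernel)⟩
  · exact ⟨wordG [1, 1, 0, 1, 0, 1, 1, 0, 0], orderOf_word (q := [5, 3]) (by norm_num) (fun r hr hd => by
      have := hprime 15 (by norm_num) r hr hd (by norm_num)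
      simp only [List.mem_cons, List.not_mem_nil, or_false] at this
      rcases this with rfl | rfl | rfl | rfl | rfl | rfl | rfl | rfl <;> simp_all (config := { decide := true })) (by decide +kernel) (by decide +kernel)⟩
  · exact ⟨wordG [0], orderOf_word (q := [1]) (by norm_num) (fun r hr hd => by
      rw [(Nat.prime_dvd_prime_iff_eq hr (by norm_num)).mp hd]; simp) (by decide +kernel) (by decide +kernel)⟩
  · exact ⟨wordG [1, 1, 0], orderOf_word (q := [1]) (by norm_num) (fun r hr hd => by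
      rw [(Nat.prime_dvd_prime_iff_eq hr (by norm_num)).mp hd]; simp) (by decide +kernel) (by decide +kernel)⟩
  · exact ⟨wordG [1, 0, 0, 0], orderOf_word (q := [1]) (by norm_num) (fun r hr hd => by
      rw [(Nat.prime_dvd_prime_iff_eq hr (by norm_num)).mp hd]; simp) (by decide +kernel) (by decide +kernel)⟩

end Cfsg.Agent.JankoOne
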