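import Cfsg.Agent.JankoOne.Orders
import Cfsg.Agent.JankoOne.SimpleData
import Cfsg.Prelude.Def_Sporadic
import Mathlib.GroupTheory.Sylow

/-!
The group `J1` is simple of order 175560.
-/

set_option autoImplicit false

namespace Cfsg.Agent.JankoOne

theorem denRow_inj {a b : ℕ} (ha : OkRow a) (hb : OkRow b) (h : denRow a = denRow b) : a = b := by
  obtain ⟨ea, a0, a1, a2, a3, a4, a5, a6⟩ := ha
  obtain ⟨eb, b0, b1, b2, b3, b4, b5, b6⟩ := hb
  have key : ∀ {x y : ℕ}, x < 11 → y < 11 → (x : ZMod 11) = (y : ZMod 11) → x = y := by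
    intro x y hx hy hxy
    have := congrArg ZMod.val hxy
    rwa [ZMod.val_natCast, ZMod.val_natCast, Nat.mod_eq_of_lt hx, Nat.mod_eq_of_lt hy] at this
  rw [ea, eb, key a0 b0 (congrFun h 0), key a1 b1 (congrFun h 1), key a2 b2 (congrFun h 2),
    key a3 b3 (congrFun h 3), key a4 b4 (congrFun h 4), key a5 b5 (congrFun h 5),
    key a6 b6 (congrFun h 6)]

theorem M7.den_inj {A B : M7} (hA : A.Ok) (hB : B.Ok) (h : A.den = B.den) : A = B := by
  obtain ⟨a0, a1, a2, a3, a4, a5, a6⟩ := hA
  obtain ⟨b0, b1, b2, b3, b4, b5, b6⟩ := hB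
  have r : ∀ i, A.den i = B.den i := fun i => congrFun h i
  cases A; cases B
  congr 1
  · exact denRow_inj a0 b0 (r 0)
  · exact denRow_inj a1 b1 (r 1)
  · exact denRow_inj a2 b2 (r 2)
  · exact denRow_inj a3 b3 (r 3)
  · exact denRow_inj a4 b4 (r 4)
  · exact denRow_inj a5 b5 (r 5)
  · exact denRow_inj a6 b6 (r 6)

/-- Equal values give equal elements. -/
theorem j1_ext {g h : Spor.J1}
    (e : (g.1 : Matrix (Fin 7) (Fin 7) (ZMod 11)) = (h.1 : Matrix (Fin 7) (Fin 7) (ZMod 11))) :
    g = h :=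
  Subtype.ext (Units.ext e)

theorem wordB_check : (wordM wordB).beq genB = true := by decide +kernel

theorem hAt_mem : ∀ j, j < 168 →
    ∃ g : Spor.J1, (g.1 : Matrix (Fin 7) (Fin 7) (ZMod 11)) = (hAt j).den := by
  intro j
  induction j using Nat.strong_induction_on with
  | _ j ih =>
  intro hj
  rcases Nat.eq_zero_or_pos j with rfl | hpos
  · exact ⟨1, by rw [M7.eq_of_beq h_zero, den_idM]; rfl⟩
  have h' := allB_spec h_par j hj
  simp only [chkPar, Bool.or_eq_true, Bool.and_eq_true, Nat.blt_eq] at h'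
  rcases h' with h' | ⟨⟨hp, -⟩, hb⟩
  · omega
  obtain ⟨g, hg⟩ := ih _ hp (hp.trans hj)
  rw [← M7.eq_of_beq hb]
  cases Nat.beq (tget ((0, 0) : ℕ × ℕ) hPar j).2 0
  · refine ⟨wordG wordB * g, ?_⟩
    rw [cond_false, M7.den_mul genOk.2.2 (hOk (hp.trans hj)), ← hg, ← M7.eq_of_beq wordB_check,
      (wordG_den wordB).2]
    rfl
  · refine ⟨wordG [0] * g, ?_⟩
    rw [cond_true, M7.den_mul genOk.1 (hOk (hp.trans hj)), ← hg, den_genX]
    simp only [wordG, if_true, mul_one]
    rfl

theorem h_distinct : allB 168 (fun i => allB i (fun j => !(M7.beq (hAt i) (hAt j)))) = true := by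
  decide +kernel

/-- The subgroup of order 168. -/
noncomputable def subH : Subgroup Spor.J1 where
  carrier := {g | ∃ j < 168, (g.1 : Matrix (Fin 7) (Fin 7) (ZMod 11)) = (hAt j).den}
  one_mem' := ⟨0, by norm_num, by rw [M7.eq_of_beq h_zero, den_idM]; rfl⟩
  mul_mem' := by
    rintro a b ⟨i, hi, ha⟩ ⟨j, hj, hb⟩
    obtain ⟨l, hl, e⟩ := h_closed i hi j hj
    exact ⟨l, hl, by rw [← e, ← ha, ← hb]; rfl⟩
  inv_mem' := by
    intro a ha
    have hpow : ∀ n : ℕ, a ^ n ∈ {g : Spor.J1 | ∃ j < 168,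
        (g.1 : Matrix (Fin 7) (Fin 7) (ZMod 11)) = (hAt j).den} := by
      intro n
      induction n with
      | zero => exact ⟨0, by norm_num, by rw [M7.eq_of_beq h_zero, den_idM]; rfl⟩
      | succ n ih =>
        obtain ⟨i, hi, e1⟩ := ih
        obtain ⟨j, hj, e2⟩ := ha
        obtain ⟨l, hl, e⟩ := h_closed i hi j hj
        exact ⟨l, hl, by rw [← e, ← e1, ← e2, pow_succ]; rfl⟩
    rw [inv_eq_of_mul_eq_one_right (b := a ^ (orderOf a - 1)) (by
      rw [← pow_succ', Nat.sub_add_cancel (orderOf_pos a), pow_orderOf_eq_one])]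
    exact hpow _

theorem card_subH : Nat.card subH = 168 := by
  let f : Fin 168 → subH := fun j =>
    ⟨(hAt_mem j j.2).choose, j, j.2, (hAt_mem j j.2).choose_spec⟩
  have hf : Function.Injective f := by
    intro i j hij
    have e : (hAt i).den = (hAt j).den := by
      rw [← (hAt_mem i i.2).choose_spec, ← (hAt_mem j j.2).choose_spec]
      exact congrArg (fun x : subH => (x.1.1 : Matrix (Fin 7) (Fin 7) (ZMod 11))) hij
    have e' := M7.den_inj (hOk i.2) (hOk j.2) e
    by_contra hne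
    rcases Nat.lt_or_gt_of_ne (fun h => hne (Fin.ext h)) with hlt | hlt
    · have h := allB_spec (allB_spec h_distinct j j.2) i hlt
      simp [e', M7.beq] at h
    · have h := allB_spec (allB_spec h_distinct i i.2) j hlt
      simp [e', M7.beq] at h
  have hs : Function.Surjective f := by
    rintro ⟨g, j, hj, hg⟩
    refine ⟨⟨j, hj⟩, Subtype.ext (j1_ext ?_)⟩
    rw [hg]
    exact (hAt_mem j hj).choose_spec
  rw [← Nat.card_eq_of_bijective f ⟨hf, hs⟩, Nat.card_fin]

theorem card_J1 : Nat.card Spor.J1 = 175560 := by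
  have hle : Nat.card Spor.J1 ≤ 175560 := by
    choose kk hkk jj hjj hM using fun g : Spor.J1 => mem_certSet g.2
    have hf : Function.Injective (fun g : Spor.J1 =>
        ((⟨kk g, hkk g⟩, ⟨jj g, hjj g⟩) : Fin 1045 × Fin 168)) := by
      intro a b hab
      simp only [Prod.mk.injEq, Fin.mk.injEq] at hab
      exact j1_ext (by rw [hM a, hM b, hab.1, hab.2])
    exact (Nat.card_le_card_of_injective _ hf).trans (le_of_eq (by simp))
  have hd : ∀ n ∈ [6, 10, 15, 7, 11, 19], n ∣ Nat.card Spor.J1 := by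
    intro n hn
    obtain ⟨g, rfl⟩ := j1_exists_order n hn
    exact orderOf_dvd_natCard g
  have h168 : 168 ∣ Nat.card Spor.J1 := card_subH ▸ Subgroup.card_subgroup_dvd_card subH
  have h5 : 5 ∣ Nat.card Spor.J1 := dvd_trans (by norm_num) (hd 10 (by simp))
  have h11 := hd 11 (by simp)
  have h19 := hd 19 (by simp)
  have h : 175560 ∣ Nat.card Spor.J1 := by
    have a := Nat.Coprime.mul_dvd_of_dvd_of_dvd (by norm_num) h168 h5
    have b := Nat.Coprime.mul_dvd_of_dvd_of_dvd (by norm_num) a h11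
    exact Nat.Coprime.mul_dvd_of_dvd_of_dvd (by norm_num) b h19
  exact le_antisymm hle (Nat.le_of_dvd Nat.card_pos h)

/-- The word of the representative of order `p`. -/
noncomputable def repWord (p : ℕ) : List ℕ :=
  ((primeReps.find? fun e => Nat.beq e.1 p).map Prod.snd).getD []

/-- The representative of order `p`. -/
noncomputable abbrev repM (p : ℕ) : M7 := wordM (repWord p)

theorem rep_checks : ([2, 3, 5, 7, 11, 19] : List ℕ).all (fun p =>
    !(M7.beq (repM p) idM) &&
      M7.beq (List.rec (motive := fun _ => M7) idM (fun _ _ r => (repM p).mul r) (List.range p))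
        idM) = true := by decide +kernel

theorem four_checks :
    ((0 :: fourConj.map Prod.fst).all (fun i => Nat.blt i 168 &&
      (0 :: fourConj.map Prod.fst).all (fun j =>
        (0 :: fourConj.map Prod.fst).any (fun l => M7.beq ((hAt i).mul (hAt j)) (hAt l))))) = true ∧
    (Nat.beq fourConj.length 7 && (0 :: fourConj.map Prod.fst).Nodup) = true ∧
    fourConj.all (fun e => Nat.blt e.2 168 &&
      M7.beq ((hAt e.2).mul (hAt e.1)) ((repM 2).mul (hAt e.2))) = true := by decide +kernel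

theorem gen_checks : ([2, 3, 5, 7, 11, 19] : List ℕ).all (fun p =>
    ([0, 1] : List ℕ).all (fun c => genCerts.any (fun e => Nat.beq e.1 p && Nat.beq e.2.1 c &&
      e.2.2.all (fun t => t.2.okb && M7.beq (t.2.mul (wordM t.1)) ((wordM t.1).mul (repM p))) &&
      M7.beq (List.rec (motive := fun _ => M7) idM (fun t _ r => t.2.mul r) e.2.2)
        (cond (Nat.beq c 0) genX genY)))) = true := by decide +kernel

theorem rep_spec {p : ℕ} (hp : p ∈ ([2, 3, 5, 7, 11, 19] : List ℕ)) :
    orderOf (wordG (repWord p)) = p := by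
  have h := List.all_eq_true.mp rep_checks p hp
  simp only [Bool.and_eq_true, Bool.not_eq_true'] at h
  obtain ⟨hne, hpow⟩ := h
  have hprime : p.Prime := by
    simp only [List.mem_cons, List.not_mem_nil, or_false] at hp
    rcases hp with rfl | rfl | rfl | rfl | rfl | rfl <;> norm_num
  have := Fact.mk hprime
  have key : ∀ l : List ℕ, (List.rec (motive := fun _ => M7) idM (fun _ _ r => (repM p).mul r) l).Ok ∧
      (List.rec (motive := fun _ => M7) idM (fun _ _ r => (repM p).mul r) l).den =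
        ((wordG (repWord p) ^ l.length : Spor.J1).1 : Matrix (Fin 7) (Fin 7) (ZMod 11)) := by
    intro l
    induction l with
    | nil => exact ⟨ok_idM, den_idM.trans rfl⟩
    | cons a l ih =>
      refine ⟨M7.ok_mul _ _, ?_⟩
      change ((repM p).mul _).den = _
      rw [M7.den_mul (wordG_den _).1 ih.1, (wordG_den _).2, ih.2, List.length_cons, pow_succ']
      rfl
  refine orderOf_eq_prime ?_ fun e => ?_
  · have h2 := (key (List.range p)).2
    rw [M7.eq_of_beq hpow, den_idM, List.length_range] at h2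
    exact j1_ext (h2.symm.trans rfl)
  · have : repM p = idM := M7.den_inj (wordG_den _).1 ok_idM (by
      rw [(wordG_den _).2, e, den_idM]; rfl)
    rw [this] at hne
    simp [M7.beq] at hne

theorem four_mem (i : ℕ) (hi : i ∈ 0 :: fourConj.map Prod.fst) : i < 168 := by
  have h := List.all_eq_true.mp four_checks.1 i hi
  simp only [Bool.and_eq_true, Nat.blt_eq] at h
  exact h.1

/-- A subgroup of order eight. -/
noncomputable def subFour : Subgroup Spor.J1 where
  carrier := {g | ∃ j ∈ 0 :: fourConj.map Prod.fst,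
    (g.1 : Matrix (Fin 7) (Fin 7) (ZMod 11)) = (hAt j).den}
  one_mem' := ⟨0, List.mem_cons_self, by rw [M7.eq_of_beq h_zero, den_idM]; rfl⟩
  mul_mem' := by
    rintro a b ⟨i, hi, ha⟩ ⟨j, hj, hb⟩
    have h := List.all_eq_true.mp four_checks.1 i hi
    simp only [Bool.and_eq_true] at h
    obtain ⟨l, hl, e⟩ := List.any_eq_true.mp (List.all_eq_true.mp h.2 j hj)
    exact ⟨l, hl, by
      rw [← M7.eq_of_beq e, M7.den_mul (hOk (four_mem i hi)) (hOk (four_mem j hj)), ← ha, ← hb]
      rfl⟩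
  inv_mem' := by
    intro a ha
    have hpow : ∀ n : ℕ, a ^ (n + 1) ∈ {g : Spor.J1 | ∃ j ∈ 0 :: fourConj.map Prod.fst,
        (g.1 : Matrix (Fin 7) (Fin 7) (ZMod 11)) = (hAt j).den} := by
      intro n
      induction n with
      | zero => rw [zero_add, pow_one]; exact ha
      | succ n ih =>
        obtain ⟨i, hi, e1⟩ := ih
        obtain ⟨j, hj, e2⟩ := ha
        have h := List.all_eq_true.mp four_checks.1 i hi
        simp only [Bool.and_eq_true] at h
        obtain ⟨l, hl, e⟩ := List.any_eq_true.mp (List.all_eq_true.mp h.2 j hj)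
        exact ⟨l, hl, by
          rw [← M7.eq_of_beq e, M7.den_mul (hOk (four_mem i hi)) (hOk (four_mem j hj)), ← e1, ← e2,
            pow_succ _ (n + 1)]
          rfl⟩
    by_cases h1 : orderOf a = 1
    · rw [orderOf_eq_one_iff.mp h1, inv_one]
      exact ⟨0, List.mem_cons_self, by rw [M7.eq_of_beq h_zero, den_idM]; rfl⟩
    · have h2 := orderOf_pos a
      rw [inv_eq_of_mul_eq_one_right (b := a ^ ((orderOf a - 2) + 1)) (by
        rw [← pow_succ', show orderOf a - 2 + 1 + 1 = orderOf a by omega, pow_orderOf_eq_one])]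
      exact hpow _

theorem card_subFour : Nat.card subFour = 8 := by
  have h2 := four_checks.2.1
  simp only [Bool.and_eq_true, decide_eq_true_eq, Nat.beq_eq] at h2
  obtain ⟨hlen, hnd⟩ := h2
  obtain ⟨L, hL⟩ : ∃ L, L = 0 :: fourConj.map Prod.fst := ⟨_, rfl⟩
  have hmem' : ∀ i : Fin L.length, L[i] ∈ 0 :: fourConj.map Prod.fst := fun i => by
    have h : L[i] ∈ L := List.getElem_mem i.2
    simpa only [← hL] using h
  have hmem : ∀ i : Fin L.length, L[i] < 168 := fun i => four_mem _ (hmem' i)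
  let f : Fin L.length → subFour := fun i =>
    ⟨(hAt_mem _ (hmem i)).choose, L[i], hmem' i, (hAt_mem _ (hmem i)).choose_spec⟩
  have hinjH : ∀ i < 168, ∀ j < 168, (hAt i).den = (hAt j).den → i = j := by
    intro i hi j hj e
    have e' := M7.den_inj (hOk hi) (hOk hj) e
    rcases Nat.lt_trichotomy i j with hlt | h | hlt
    · have h := allB_spec (allB_spec h_distinct j hj) i hlt
      simp [e', M7.beq] at h
    · exact h
    · have h := allB_spec (allB_spec h_distinct i hi) j hlt
      simp [e', M7.beq] at h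
  have hnd' : L.Nodup := by rw [hL]; exact hnd
  have hf : Function.Bijective f := by
    refine ⟨fun i j hij => ?_, ?_⟩
    · have e : (hAt L[i]).den = (hAt L[j]).den := by
        rw [← (hAt_mem _ (hmem i)).choose_spec, ← (hAt_mem _ (hmem j)).choose_spec]
        exact congrArg (fun x : subFour => (x.1.1 : Matrix (Fin 7) (Fin 7) (ZMod 11))) hij
      exact Fin.ext ((List.Nodup.getElem_inj_iff hnd').mp (hinjH _ (hmem i) _ (hmem j) e))
    · rintro ⟨g, j, hj, hg⟩
      obtain ⟨n, hn, rfl⟩ := List.getElem_of_mem (hL ▸ hj : j ∈ L)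
      refine ⟨⟨n, hn⟩, Subtype.ext (j1_ext ?_)⟩
      rw [hg]
      exact (hAt_mem _ (hmem ⟨n, hn⟩)).choose_spec
  rw [← Nat.card_eq_of_bijective f hf, Nat.card_fin, hL, List.length_cons, List.length_map, hlen]

theorem conj_into {p v : ℕ} [Fact p.Prime] (hv : Nat.card Spor.J1 / p ^ v % p ≠ 0)
    (hdvd : p ^ v ∣ Nat.card Spor.J1) {P : Subgroup Spor.J1} (hP : Nat.card P = p ^ v)
    {y : Spor.J1} (hy : orderOf y = p) : ∃ k, k * y * k⁻¹ ∈ P := by
  have hY : IsPGroup p (Subgroup.zpowers y) := IsPGroup.of_card (n := 1) (by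
    rw [Nat.card_zpowers, hy, pow_one])
  obtain ⟨Q, hQ⟩ := hY.exists_le_sylow
  obtain ⟨R, hR⟩ := (IsPGroup.of_card hP).exists_le_sylow
  have hR' : P = (R : Subgroup Spor.J1) := by
    refine Subgroup.eq_of_le_of_card_ge hR ?_
    obtain ⟨n, hn⟩ := IsPGroup.iff_card.mp R.2
    rw [hn, hP]
    refine Nat.pow_le_pow_right (Fact.out : p.Prime).pos ?_
    by_contra hlt
    refine hv (Nat.mod_eq_zero_of_dvd ?_)
    obtain ⟨c, hc⟩ := hdvd
    have hd : p ^ (v + 1) ∣ Nat.card Spor.J1 :=
      (pow_dvd_pow p (show v + 1 ≤ n by omega)).trans (hn ▸ Subgroup.card_subgroup_dvd_card _)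
    rw [hc, Nat.mul_div_cancel_left _ (pow_pos (Fact.out : p.Prime).pos v)]
    rw [hc, pow_succ] at hd
    exact Nat.dvd_of_mul_dvd_mul_left (pow_pos (Fact.out : p.Prime).pos v) hd
  obtain ⟨k, hk⟩ := MulAction.exists_smul_eq Spor.J1 Q R
  refine ⟨k, ?_⟩
  rw [hR', ← hk, Sylow.coe_subgroup_smul]
  exact Subgroup.smul_mem_pointwise_smul _ (MulAut.conj k) _ (hQ (Subgroup.mem_zpowers y))

theorem rep_mem_normal {N : Subgroup Spor.J1} [N.Normal] (hN : N ≠ ⊥) :
    ∃ p ∈ ([2, 3, 5, 7, 11, 19] : List ℕ), wordG (repWord p) ∈ N := by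
  have h1 : 1 < Nat.card N := Finite.one_lt_card_iff_nontrivial.mpr
    (Subgroup.nontrivial_iff_ne_bot N |>.mpr hN)
  obtain ⟨p, hp, hpd⟩ := Nat.exists_prime_and_dvd (Nat.ne_of_gt h1)
  have := Fact.mk hp
  obtain ⟨y, hy⟩ := exists_prime_orderOf_dvd_card' p hpd
  have hpG : p ∣ 175560 := card_J1 ▸ hpd.trans (Subgroup.card_subgroup_dvd_card N)
  have hpmem : p ∈ ([2, 3, 5, 7, 11, 19] : List ℕ) := by
    have h2 : p ∈ Nat.primeFactorsList 175560 :=
      Nat.mem_primeFactorsList (by norm_num) |>.mpr ⟨hp, hpG⟩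
    have he : ∀ q ∈ Nat.primeFactorsList 175560, q ∈ ([2, 3, 5, 7, 11, 19] : List ℕ) := by
      intro q hq
      obtain ⟨hq1, hq2⟩ := (Nat.mem_primeFactorsList (by norm_num)).mp hq
      rcases (Nat.Prime.dvd_mul hq1).mp (show q ∣ 2 ^ 3 * (3 * (5 * (7 * (11 * 19)))) from hq2) with
        h | h
      · simp [(Nat.prime_dvd_prime_iff_eq hq1 Nat.prime_two).mp (hq1.dvd_of_dvd_pow h)]
      rcases (Nat.Prime.dvd_mul hq1).mp h with h | h
      · simp [(Nat.prime_dvd_prime_iff_eq hq1 Nat.prime_three).mp h]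
      rcases (Nat.Prime.dvd_mul hq1).mp h with h | h
      · simp [(Nat.prime_dvd_prime_iff_eq hq1 (by norm_num)).mp h]
      rcases (Nat.Prime.dvd_mul hq1).mp h with h | h
      · simp [(Nat.prime_dvd_prime_iff_eq hq1 (by norm_num)).mp h]
      rcases (Nat.Prime.dvd_mul hq1).mp h with h | h
      · simp [(Nat.prime_dvd_prime_iff_eq hq1 (by norm_num)).mp h]
      · simp [(Nat.prime_dvd_prime_iff_eq hq1 (by norm_num)).mp h]
    exact he p h2
  refine ⟨p, hpmem, ?_⟩
  have hy' : orderOf (y : Spor.J1) = p := by rw [Subgroup.orderOf_coe, hy]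
  by_cases hp2 : p = 2
  · subst hp2
    obtain ⟨k, hk⟩ := conj_into (v := 3) (by rw [card_J1]; norm_num) (by rw [card_J1]; norm_num)
      (P := subFour) (by rw [card_subFour]; rfl) hy'
    obtain ⟨j, hj, hje⟩ := hk
    have hkN : k * (y : Spor.J1) * k⁻¹ ∈ N := Subgroup.Normal.conj_mem ‹_› _ y.2 k
    rcases List.mem_cons.mp hj with rfl | hj
    · exfalso
      have h1' : k * (y : Spor.J1) * k⁻¹ = 1 := j1_ext (by
        rw [hje, M7.eq_of_beq h_zero, den_idM]; rfl)
      rw [conj_eq_one_iff] at h1'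
      rw [h1', orderOf_one] at hy'
      omega
    · obtain ⟨⟨e1, e2⟩, he, rfl⟩ := List.mem_map.mp hj
      have h := List.all_eq_true.mp four_checks.2.2 _ he
      simp only [Bool.and_eq_true, Nat.blt_eq] at h
      obtain ⟨g, hg⟩ := hAt_mem e2 h.1
      have hlt := four_mem e1 (List.mem_cons_of_mem _ hj)
      have e := congrArg M7.den (M7.eq_of_beq h.2)
      rw [M7.den_mul (hOk h.1) (hOk hlt), M7.den_mul (wordG_den _).1 (hOk h.1), ← hg, ← hje,
        (wordG_den _).2] at e
      have e' : g * (k * (y : Spor.J1) * k⁻¹) = wordG (repWord 2) * g := j1_ext e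
      rw [show wordG (repWord 2) = g * (k * (y : Spor.J1) * k⁻¹) * g⁻¹ by rw [e']; group]
      exact Subgroup.Normal.conj_mem ‹_› _ hkN g
  · have hcard : Nat.card (Subgroup.zpowers (wordG (repWord p))) = p ^ 1 := by
      rw [Nat.card_zpowers, rep_spec hpmem, pow_one]
    have hv : Nat.card Spor.J1 / p ^ 1 % p ≠ 0 := by
      rw [card_J1]
      simp only [List.mem_cons, List.not_mem_nil, or_false] at hpmem
      rcases hpmem with rfl | rfl | rfl | rfl | rfl | rfl <;> first | exact absurd rfl hp2 | norm_num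
    obtain ⟨k, hk⟩ := conj_into hv (by rw [pow_one, card_J1]; exact hpG) hcard hy'
    have hkN : k * (y : Spor.J1) * k⁻¹ ∈ N := Subgroup.Normal.conj_mem ‹_› _ y.2 k
    have hord : orderOf (k * (y : Spor.J1) * k⁻¹) = p :=
      (orderOf_injective (MulAut.conj k).toMonoidHom (MulAut.conj k).injective (y : Spor.J1)).trans hy'
    have heq : Subgroup.zpowers (k * (y : Spor.J1) * k⁻¹) = Subgroup.zpowers (wordG (repWord p)) := by
      refine Subgroup.eq_of_le_of_card_ge (Subgroup.zpowers_le.mpr hk) ?_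
      rw [hcard, Nat.card_zpowers, hord, pow_one]
    have hx := Subgroup.mem_zpowers (wordG (repWord p))
    rw [← heq] at hx
    exact (Subgroup.zpowers_le.mpr hkN) hx

theorem isSimple_J1 : IsSimpleGroup Spor.J1 := by
  have : Nontrivial Spor.J1 := Finite.one_lt_card_iff_nontrivial.mp (by rw [card_J1]; norm_num)
  constructor
  intro N hN
  refine or_iff_not_imp_left.mpr fun hne => ?_
  obtain ⟨p, hp, hx⟩ := rep_mem_normal hne
  have hgen : ∀ c ∈ ([0, 1] : List ℕ), ∃ g : Spor.J1, g ∈ N ∧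
      (g.1 : Matrix (Fin 7) (Fin 7) (ZMod 11)) = (cond (Nat.beq c 0) genX genY).den := by
    intro c hc
    obtain ⟨⟨p', c', ts⟩, -, he⟩ :=
      List.any_eq_true.mp (List.all_eq_true.mp (List.all_eq_true.mp gen_checks p hp) c hc)
    simp only [Bool.and_eq_true, List.all_eq_true] at he
    obtain ⟨⟨-, hts⟩, hprod⟩ := he
    have key : ∀ l : List (List ℕ × M7), (∀ t ∈ l, t.2.okb = true ∧
        M7.beq (t.2.mul (wordM t.1)) ((wordM t.1).mul (repM p)) = true) →
        ∃ g : Spor.J1, g ∈ N ∧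
          (List.rec (motive := fun _ => M7) idM (fun t _ r => t.2.mul r) l).Ok ∧
          (g.1 : Matrix (Fin 7) (Fin 7) (ZMod 11)) =
            (List.rec (motive := fun _ => M7) idM (fun t _ r => t.2.mul r) l).den := by
      intro l
      induction l with
      | nil => exact fun _ => ⟨1, one_mem _, ok_idM, den_idM.symm⟩
      | cons t l ih =>
        intro hl
        obtain ⟨g, hg, hok, hge⟩ := ih fun u hu => hl u (List.mem_cons_of_mem _ hu)
        obtain ⟨hyok, he'⟩ := hl t List.mem_cons_self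
        have hy := M7.ok_of_okb hyok
        have e := congrArg M7.den (M7.eq_of_beq he')
        rw [M7.den_mul hy (wordG_den _).1, M7.den_mul (wordG_den _).1 (wordG_den _).1,
          (wordG_den t.1).2, (wordG_den (repWord p)).2] at e
        refine ⟨wordG t.1 * wordG (repWord p) * (wordG t.1)⁻¹ * g,
          mul_mem (hN.conj_mem _ hx _) hg, M7.ok_mul _ _, ?_⟩
        change _ = (t.2.mul _).den
        rw [M7.den_mul hy hok, ← hge]
        simp only [Subgroup.coe_mul, Units.val_mul, InvMemClass.coe_inv]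
        rw [← e, mul_assoc t.2.den, ← Units.val_mul, mul_inv_cancel, Units.val_one, mul_one]
    obtain ⟨g, hg, -, hge⟩ := key ts hts
    exact ⟨g, hg, by rw [hge, M7.eq_of_beq hprod]⟩
  rw [eq_top_iff]
  intro z _
  have hle : Spor.J1 ≤ N.map Spor.J1.subtype := by
    unfold Spor.J1
    rw [Subgroup.closure_le]
    intro w hw
    rcases hw with rfl | rfl
    · obtain ⟨g, hg, hge⟩ := hgen 0 (by simp)
      exact ⟨g, hg, Units.ext (hge.trans den_genX)⟩
    · obtain ⟨g, hg, hge⟩ := hgen 1 (by simp)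
      exact ⟨g, hg, Units.ext (hge.trans den_genY)⟩
  obtain ⟨w, hw, he⟩ := hle z.2
  exact (Subtype.ext he : w = z) ▸ hw

end Cfsg.Agent.JankoOne
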