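import Mathlib

/-!
`7 × 7` matrices over `ZMod 11` packed in natural numbers (seven rows, ten bits per entry), with a
product that the kernel evaluates quickly.
-/

set_option autoImplicit false

namespace Cfsg.Agent.JankoOne

/-- Seven packed rows. -/
structure M7 where
  r0 : ℕ
  r1 : ℕ
  r2 : ℕ
  r3 : ℕ
  r4 : ℕ
  r5 : ℕ
  r6 : ℕ

/-- Pack seven digits in base 1024. -/
def pack (a b c d e f g : ℕ) : ℕ :=
  a + 1024 * (b + 1024 * (c + 1024 * (d + 1024 * (e + 1024 * (f + 1024 * g)))))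

def l0 (n : ℕ) : ℕ := n % 1024
def l1 (n : ℕ) : ℕ := (n / 1024) % 1024
def l2 (n : ℕ) : ℕ := (n / 1048576) % 1024
def l3 (n : ℕ) : ℕ := (n / 1073741824) % 1024
def l4 (n : ℕ) : ℕ := (n / 1099511627776) % 1024
def l5 (n : ℕ) : ℕ := (n / 1125899906842624) % 1024
def l6 (n : ℕ) : ℕ := (n / 1152921504606846976) % 1024

/-- Reduce all entries of a packed row modulo 11. -/
def nrm (n : ℕ) : ℕ :=
  pack (l0 n % 11) (l1 n % 11) (l2 n % 11) (l3 n % 11) (l4 n % 11) (l5 n % 11) (l6 n % 11)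

/-- A row times a matrix. -/
def rowMul (a : ℕ) (B : M7) : ℕ :=
  nrm (l0 a * B.r0 + l1 a * B.r1 + l2 a * B.r2 + l3 a * B.r3 + l4 a * B.r4 + l5 a * B.r5 + l6 a * B.r6)

/-- The product. -/
def M7.mul (A B : M7) : M7 :=
  ⟨rowMul A.r0 B, rowMul A.r1 B, rowMul A.r2 B, rowMul A.r3 B, rowMul A.r4 B, rowMul A.r5 B,
    rowMul A.r6 B⟩

/-- Boolean equality. -/
def M7.beq (A B : M7) : Bool :=
  Nat.beq A.r0 B.r0 && Nat.beq A.r1 B.r1 && Nat.beq A.r2 B.r2 && Nat.beq A.r3 B.r3 &&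
    Nat.beq A.r4 B.r4 && Nat.beq A.r5 B.r5 && Nat.beq A.r6 B.r6

theorem M7.eq_of_beq {A B : M7} (h : M7.beq A B = true) : A = B := by
  simp only [M7.beq, Bool.and_eq_true, Nat.beq_eq] at h
  obtain ⟨⟨⟨⟨⟨⟨h0, h1⟩, h2⟩, h3⟩, h4⟩, h5⟩, h6⟩ := h
  cases A; cases B
  simp_all

/-- A packed row with entries below 11. -/
def OkRow (n : ℕ) : Prop :=
  n = pack (l0 n) (l1 n) (l2 n) (l3 n) (l4 n) (l5 n) (l6 n) ∧ l0 n < 11 ∧ l1 n < 11 ∧ l2 n < 11 ∧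
    l3 n < 11 ∧ l4 n < 11 ∧ l5 n < 11 ∧ l6 n < 11

/-- A matrix with valid rows. -/
def M7.Ok (A : M7) : Prop :=
  OkRow A.r0 ∧ OkRow A.r1 ∧ OkRow A.r2 ∧ OkRow A.r3 ∧ OkRow A.r4 ∧ OkRow A.r5 ∧ OkRow A.r6

theorem lanes {a b c d e f g : ℕ} (ha : a < 1024) (hb : b < 1024) (hc : c < 1024) (hd : d < 1024)
    (he : e < 1024) (hf : f < 1024) (hg : g < 1024) :
    l0 (pack a b c d e f g) = a ∧ l1 (pack a b c d e f g) = b ∧ l2 (pack a b c d e f g) = c ∧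
      l3 (pack a b c d e f g) = d ∧ l4 (pack a b c d e f g) = e ∧ l5 (pack a b c d e f g) = f ∧
      l6 (pack a b c d e f g) = g := by
  simp only [pack, l0, l1, l2, l3, l4, l5, l6]
  refine ⟨?_, ?_, ?_, ?_, ?_, ?_, ?_⟩ <;> omega

theorem ok_nrm (n : ℕ) : OkRow (nrm n) := by
  obtain ⟨e0, e1, e2, e3, e4, e5, e6⟩ := lanes
    (a := l0 n % 11) (b := l1 n % 11) (c := l2 n % 11) (d := l3 n % 11) (e := l4 n % 11)
    (f := l5 n % 11) (g := l6 n % 11) (by omega) (by omega) (by omega) (by omega) (by omega)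
    (by omega) (by omega)
  unfold OkRow nrm
  rw [e0, e1, e2, e3, e4, e5, e6]
  refine ⟨rfl, ?_, ?_, ?_, ?_, ?_, ?_, ?_⟩ <;> exact Nat.mod_lt _ (by norm_num)

theorem M7.ok_mul (A B : M7) : (A.mul B).Ok :=
  ⟨ok_nrm _, ok_nrm _, ok_nrm _, ok_nrm _, ok_nrm _, ok_nrm _, ok_nrm _⟩

/-- Boolean validity. -/
def M7.okb (A : M7) : Bool :=
  M7.beq A ⟨nrm A.r0, nrm A.r1, nrm A.r2, nrm A.r3, nrm A.r4, nrm A.r5, nrm A.r6⟩

theorem M7.ok_of_okb {A : M7} (h : A.okb = true) : A.Ok := by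
  rw [M7.eq_of_beq h]
  exact ⟨ok_nrm _, ok_nrm _, ok_nrm _, ok_nrm _, ok_nrm _, ok_nrm _, ok_nrm _⟩

/-- The denoted matrix. -/
def denRow (n : ℕ) : Fin 7 → ZMod 11 :=
  ![(l0 n : ZMod 11), (l1 n : ZMod 11), (l2 n : ZMod 11), (l3 n : ZMod 11), (l4 n : ZMod 11),
    (l5 n : ZMod 11), (l6 n : ZMod 11)]

/-- The denoted matrix. -/
def M7.den (A : M7) : Matrix (Fin 7) (Fin 7) (ZMod 11) :=
  Matrix.of ![denRow A.r0, denRow A.r1, denRow A.r2, denRow A.r3, denRow A.r4, denRow A.r5,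
    denRow A.r6]

theorem comb_lt {x0 x1 x2 x3 x4 x5 x6 y0 y1 y2 y3 y4 y5 y6 : ℕ}
    (h0 : x0 < 11) (h1 : x1 < 11) (h2 : x2 < 11) (h3 : x3 < 11) (h4 : x4 < 11) (h5 : x5 < 11)
    (h6 : x6 < 11) (g0 : y0 < 11) (g1 : y1 < 11) (g2 : y2 < 11) (g3 : y3 < 11) (g4 : y4 < 11)
    (g5 : y5 < 11) (g6 : y6 < 11) :
    x0 * y0 + x1 * y1 + x2 * y2 + x3 * y3 + x4 * y4 + x5 * y5 + x6 * y6 < 1024 := by
  have := Nat.mul_le_mul (Nat.le_of_lt_succ h0) (Nat.le_of_lt_succ g0)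
  have := Nat.mul_le_mul (Nat.le_of_lt_succ h1) (Nat.le_of_lt_succ g1)
  have := Nat.mul_le_mul (Nat.le_of_lt_succ h2) (Nat.le_of_lt_succ g2)
  have := Nat.mul_le_mul (Nat.le_of_lt_succ h3) (Nat.le_of_lt_succ g3)
  have := Nat.mul_le_mul (Nat.le_of_lt_succ h4) (Nat.le_of_lt_succ g4)
  have := Nat.mul_le_mul (Nat.le_of_lt_succ h5) (Nat.le_of_lt_succ g5)
  have := Nat.mul_le_mul (Nat.le_of_lt_succ h6) (Nat.le_of_lt_succ g6)
  omega

theorem denRow_rowMul {a : ℕ} {B : M7} (ha : OkRow a) (hB : B.Ok) :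
    denRow (rowMul a B) = Matrix.vecMul (denRow a) B.den := by
  obtain ⟨-, a0, a1, a2, a3, a4, a5, a6⟩ := ha
  obtain ⟨⟨e0, p00, p01, p02, p03, p04, p05, p06⟩, ⟨e1, p10, p11, p12, p13, p14, p15, p16⟩,
    ⟨e2, p20, p21, p22, p23, p24, p25, p26⟩, ⟨e3, p30, p31, p32, p33, p34, p35, p36⟩,
    ⟨e4, p40, p41, p42, p43, p44, p45, p46⟩, ⟨e5, p50, p51, p52, p53, p54, p55, p56⟩,
    ⟨e6, p60, p61, p62, p63, p64, p65, p66⟩⟩ := hB
  let c : (ℕ → ℕ) → ℕ := fun l => l0 a * l B.r0 + l1 a * l B.r1 + l2 a * l B.r2 + l3 a * l B.r3 +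
    l4 a * l B.r4 + l5 a * l B.r5 + l6 a * l B.r6
  have hsum : l0 a * B.r0 + l1 a * B.r1 + l2 a * B.r2 + l3 a * B.r3 + l4 a * B.r4 + l5 a * B.r5 +
      l6 a * B.r6 = pack (c l0) (c l1) (c l2) (c l3) (c l4) (c l5) (c l6) := by
    conv_lhs => rw [e0, e1, e2, e3, e4, e5, e6]
    simp only [c, pack]
    ring
  obtain ⟨q0, q1, q2, q3, q4, q5, q6⟩ := lanes
    (comb_lt a0 a1 a2 a3 a4 a5 a6 p00 p10 p20 p30 p40 p50 p60 : c l0 < 1024)
    (comb_lt a0 a1 a2 a3 a4 a5 a6 p01 p11 p21 p31 p41 p51 p61 : c l1 < 1024)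
    (comb_lt a0 a1 a2 a3 a4 a5 a6 p02 p12 p22 p32 p42 p52 p62 : c l2 < 1024)
    (comb_lt a0 a1 a2 a3 a4 a5 a6 p03 p13 p23 p33 p43 p53 p63 : c l3 < 1024)
    (comb_lt a0 a1 a2 a3 a4 a5 a6 p04 p14 p24 p34 p44 p54 p64 : c l4 < 1024)
    (comb_lt a0 a1 a2 a3 a4 a5 a6 p05 p15 p25 p35 p45 p55 p65 : c l5 < 1024)
    (comb_lt a0 a1 a2 a3 a4 a5 a6 p06 p16 p26 p36 p46 p56 p66 : c l6 < 1024)
  obtain ⟨r0, r1, r2, r3, r4, r5, r6⟩ := lanes
    (a := c l0 % 11) (b := c l1 % 11) (c := c l2 % 11) (d := c l3 % 11) (e := c l4 % 11)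
    (f := c l5 % 11) (g := c l6 % 11) (by omega) (by omega) (by omega) (by omega) (by omega)
    (by omega) (by omega)
  have hrow : rowMul a B = pack (c l0 % 11) (c l1 % 11) (c l2 % 11) (c l3 % 11) (c l4 % 11)
      (c l5 % 11) (c l6 % 11) := by
    unfold rowMul nrm
    rw [hsum, q0, q1, q2, q3, q4, q5, q6]
  unfold denRow
  rw [hrow, r0, r1, r2, r3, r4, r5, r6]
  funext j
  simp only [Matrix.vecMul, dotProduct, Fin.sum_univ_seven, M7.den, Matrix.of_apply, c]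
  fin_cases j <;> simp [ZMod.natCast_mod, denRow]

theorem M7.den_mul {A B : M7} (hA : A.Ok) (hB : B.Ok) : (A.mul B).den = A.den * B.den := by
  funext i
  rw [Matrix.mul_apply_eq_vecMul]
  fin_cases i
  · exact denRow_rowMul hA.1 hB
  · exact denRow_rowMul hA.2.1 hB
  · exact denRow_rowMul hA.2.2.1 hB
  · exact denRow_rowMul hA.2.2.2.1 hB
  · exact denRow_rowMul hA.2.2.2.2.1 hB
  · exact denRow_rowMul hA.2.2.2.2.2.1 hB
  · exact denRow_rowMul hA.2.2.2.2.2.2 hB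

/-- The identity. -/
def idM : M7 :=
  ⟨1, 1024, 1048576, 1073741824, 1099511627776, 1125899906842624, 1152921504606846976⟩

theorem den_idM : idM.den = 1 := by decide

theorem ok_idM : idM.Ok := M7.ok_of_okb (by decide)

/-- Lookup in a list, with the identity as default. -/
noncomputable def getN {α : Type} (d : α) (l : List α) : ℕ → α :=
  List.rec (motive := fun _ => ℕ → α) (fun _ => d)
    (fun x _ f n => Nat.rec (motive := fun _ => α) x (fun m _ => f m) n) l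

/-- Two-level lookup. -/
noncomputable def tget {α : Type} (d : α) (l : List (List α)) (k : ℕ) : α :=
  getN d (getN [] l (k / 32)) (k % 32)

/-- `∀ j < n, f j` as a Bool. -/
noncomputable def allB (n : ℕ) (f : ℕ → Bool) : Bool :=
  Nat.rec (motive := fun _ => Bool) true (fun k r => f k && r) n

theorem allB_spec {n : ℕ} {f : ℕ → Bool} (h : allB n f = true) : ∀ j, j < n → f j = true := by
  induction n with
  | zero => intro j hj; omega
  | succ k ih =>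
    rw [show allB (k + 1) f = (f k && allB k f) from rfl, Bool.and_eq_true] at h
    intro j hj
    rcases Nat.lt_succ_iff_lt_or_eq.mp hj with h' | h'
    · exact ih h.2 j h'
    · exact h' ▸ h.1

end Cfsg.Agent.JankoOne
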