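import Cfsg.Agent.JankoOne.Data

/-!
Kernel checks of the certificate for the element orders of `J1`.
-/

set_option autoImplicit false

namespace Cfsg.Agent.JankoOne

noncomputable def tAt (k : ℕ) : M7 := tget idM tReps k
noncomputable def hAt (j : ℕ) : M7 := tget idM hElts j

/-- The generator used in the word tree of `H`. -/
def hGen (i : ℕ) : M7 := match i with
  | 0 => genX
  | _ => genB

noncomputable def chkT (g : M7) (tbl : List (List (ℕ × ℕ))) (k : ℕ) : Bool :=
  let p := tget ((0, 0) : ℕ × ℕ) tbl k
  Nat.blt p.1 1045 && Nat.blt p.2 168 && M7.beq (g.mul (tAt k)) ((tAt p.1).mul (hAt p.2))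

noncomputable def chkH (g : M7) (tbl : List (List ℕ)) (j : ℕ) : Bool :=
  let i := tget 0 tbl j
  Nat.blt i 168 && M7.beq (g.mul (hAt j)) (hAt i)

noncomputable def chkPar (j : ℕ) : Bool :=
  let p := tget ((0, 0) : ℕ × ℕ) hPar j
  Nat.blt j 1 || (Nat.blt p.1 j && Nat.blt p.2 2 &&
    M7.beq ((cond (Nat.beq p.2 0) genX genB).mul (hAt p.1)) (hAt j))

noncomputable def chkDc (k : ℕ) : Bool :=
  let p := tget ((0, 0, 0) : ℕ × ℕ × ℕ) tDc k
  Nat.blt p.1 168 && Nat.blt p.2.1 11 && Nat.blt p.2.2 168 &&
    M7.beq (((hAt p.1).mul (tAt (getN 0 dReps p.2.1))).mul (hAt p.2.2)) (tAt k)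

noncomputable def chkOk (k : ℕ) : Bool := (tAt k).okb

noncomputable def powTag (g : M7) (t : ℕ) : M7 :=
  let g2 := g.mul g
  match t with
  | 0 => let g3 := g2.mul g; g3.mul g3
  | 1 => let g5 := (g2.mul g2).mul g; g5.mul g5
  | 2 => let g5 := (g2.mul g2).mul g; (g5.mul g5).mul g5
  | 3 => let g3 := g2.mul g; (g3.mul g3).mul g
  | 4 => let g5 := (g2.mul g2).mul g; (g5.mul g5).mul g
  | _ => let g4 := g2.mul g2; let g16 := (g4.mul g4).mul (g4.mul g4); (g16.mul g2).mul g

noncomputable def chkOrd (r j : ℕ) : Bool :=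
  let t := tget 0 (getN [] dTags r) j
  M7.beq (powTag ((tAt (getN 0 dReps r)).mul (hAt j)) t) idM

noncomputable def wordM (w : List ℕ) : M7 :=
  List.rec idM (fun i _ r => (cond (Nat.beq i 0) genX genY).mul r) w

theorem gens_ok : (genX.okb && genY.okb && genB.okb) = true := by decide +kernel

theorem h_zero : M7.beq (hAt 0) idM = true := by decide +kernel

theorem t_zero : M7.beq (tAt 0) idM = true := by decide +kernel

theorem h_ok : allB 168 (fun j => (hAt j).okb) = true := by decide +kernel

theorem t_ok : allB 1045 chkOk = true := by decide +kernel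

theorem h_mulX : allB 168 (chkH genX hMulX) = true := by decide +kernel

theorem h_mulB : allB 168 (chkH genB hMulB) = true := by decide +kernel

theorem h_par : allB 168 chkPar = true := by decide +kernel

theorem t_mulX : allB 1045 (chkT genX tMulX) = true := by decide +kernel

theorem t_mulY : allB 1045 (chkT genY tMulY) = true := by decide +kernel

theorem t_dc : allB 1045 chkDc = true := by decide +kernel

theorem ord_ok : allB 11 (fun r => allB 168 (chkOrd r)) = true := by decide +kernel

end Cfsg.Agent.JankoOne
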