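import Cfsg.Agent.JankoOne.Centralizer
import Cfsg.Agent.JankoOne.OutData

/-!
Boolean checks for the automorphisms of `J1`.
-/

set_option autoImplicit false
set_option maxRecDepth 100000

namespace Cfsg.Agent.JankoOne

noncomputable def clM (i : ℕ) : M7 := tget idM threeCls i
noncomputable def clE (i : ℕ) : ℕ × ℕ × ℕ := tget (0, 0, 0) threeImg i

/-- A test row. -/
def row0 : ℕ := pack 1 2 3 4 5 6 7

/-- A row moved `n` times by a product of matrices. -/
noncomputable def rowPow (l : List M7) (n : ℕ) : ℕ :=
  Nat.rec (motive := fun _ => ℕ) row0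
    (fun _ v => List.rec (motive := fun _ => ℕ → ℕ) (fun w => w) (fun m _ f w => f (rowMul w m)) l v) n

/-- The centralising element of index `c`. -/
noncomputable def cElt (c : ℕ) : M7 := cond (Nat.blt c 60) (kM c) (centT.mul (kM (c - 60)))

theorem three_checks : (M7.beq (clM 0) (wordM (repWord 3)) && Nat.blt threeB 5852) = true := by
  decide +kernel

theorem class_checks : allB 5852 (fun i => (clM i).okb &&
    Nat.blt (clE i).1 5852 && M7.beq (genX.mul (clM i)) ((clM (clE i).1).mul genX) &&
    Nat.blt (clE i).2.1 5852 && M7.beq (genY.mul (clM i)) ((clM (clE i).2.1).mul genY)) = true := by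
  decide +kernel

theorem verdict_checks : allB 5852 (fun i =>
    (Nat.beq (clE i).2.2 0 && !(Nat.beq (rowPow [centT, clM i] 7) row0)) ||
    (Nat.beq (clE i).2.2 1 && !(Nat.beq (rowPow [centT, clM i, centT, clM i, clM i] 19) row0)) ||
    (Nat.blt 1 (clE i).2.2 && Nat.blt ((clE i).2.2 - 2) 120 &&
      M7.beq ((cElt ((clE i).2.2 - 2)).mul (clM threeB)) ((clM i).mul (cElt ((clE i).2.2 - 2))))) =
    true := by decide +kernel

theorem three_square : allB 1 (fun _ => M7.beq (((clM 0).mul (clM 0)).mul (clM 0)) idM) = true := by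
  decide +kernel

/-- A word in two matrices. -/
noncomputable def wordAB (w : List ℕ) : M7 :=
  List.rec idM (fun i _ r => (cond (Nat.beq i 0) centT (clM threeB)).mul r) w

theorem pair_checks : (M7.beq (wordAB genWordX) genX && M7.beq (wordAB genWordY) genY &&
    M7.beq (wordAB [0, 1, 0, 1, 0, 1, 0, 1, 0, 1, 0, 1, 0, 1]) idM &&
    M7.beq (wordAB (List.replicate 19 [0, 1, 0, 1, 1]).flatten) idM) = true := by decide +kernel

theorem inv_in_class : (Nat.blt threeSq 5852 &&
    M7.beq ((wordM (repWord 3)).mul (wordM (repWord 3))) (clM threeSq)) = true := by decide +kernel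

theorem par_checks : allB 5852 (fun i => Nat.beq i 0 || (Nat.blt (tget 0 threePar i / 2) i &&
    Nat.beq (cond (Nat.beq (tget 0 threePar i % 2) 0) (clE (tget 0 threePar i / 2)).1
      (clE (tget 0 threePar i / 2)).2.1) i)) = true := by decide +kernel

end Cfsg.Agent.JankoOne
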